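import Cfsg.Agent.H0.QCo1.D
set_option maxRecDepth 100000
set_option Elab.async false
set_option linter.unusedSectionVars false
namespace H0.QCo1
open H0 BN 
theorem c0 : Model.fixP R [1, 0] [[18, 23, 25, 26, 29, 32, 33]] = true := by decide +kernel
theorem c1 : Model.growP R [[18, 23, 25, 26, 29, 32, 33]] [0] 2 2 = true := by decide +kernel
theorem c2 : Model.fixP R [0] [[13, 16, 17, 19, 28, 32, 33], [14, 16, 19, 21, 22, 24, 25, 27], [15, 16, 17, 24, 25, 26, 30], [20, 24, 26, 27, 28, 30, 32], [23, 31]] = true := by decide +kernel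
theorem c3 : Model.growP R [[13, 16, 17, 19, 28, 32, 33], [14, 16, 19, 21, 22, 24, 25, 27], [15, 16, 17, 24, 25, 26, 30], [20, 24, 26, 27, 28, 30, 32], [23, 31]] [0, 1, 2, 3, 4] 1 32 = true := by decide +kernel
theorem c4 : Model.fixP R [] [[13], [14], [15], [16], [17], [18], [19], [20], [21], [22], [25], [28], [29], [31], [32], [33]] = true := by decide +kernel
theorem c5 : Model.growP R [[13], [14], [15], [16], [17], [18], [19], [20], [21], [22], [25], [28], [29], [31], [32], [33]] [0, 1, 2, 3, 4, 5, 6, 7, 8, 12, 13, 10, 15, 14, 9, 11, 0] 0 32768 = true := by decide +kernel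
theorem c6 : rulesB R [276, 27506, 4601, 98279, 0] (fun i => sh 13 (C2.L i)) (fun i => sh 13 (C2.R i)) 0 4 = true := by decide +kernel
theorem c7 : rulesB R [276, 27506, 4601, 98279, 0] (fun i => sh 13 (C2.L i)) (fun i => sh 13 (C2.R i)) 4 4 = true := by decide +kernel
theorem c8 : rulesB R [276, 27506, 4601, 98279, 0] (fun i => sh 13 (C2.L i)) (fun i => sh 13 (C2.R i)) 8 3 = true := by decide +kernel
theorem c9 : rulesB R [276, 27506, 4601, 98279, 0] (fun i => sh 13 (C2.L i)) (fun i => sh 13 (C2.R i)) 11 3 = true := by decide +kernel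
theorem c10 : rulesB R [276, 27506, 4601, 98279, 0] (fun i => sh 13 (C2.L i)) (fun i => sh 13 (C2.R i)) 14 4 = true := by decide +kernel
theorem c11 : rulesB R [276, 27506, 4601, 98279, 0] (fun i => sh 13 (C2.L i)) (fun i => sh 13 (C2.R i)) 18 4 = true := by decide +kernel
theorem c12 : rulesB R [276, 27506, 4601, 98279, 0] (fun i => sh 13 (C2.L i)) (fun i => sh 13 (C2.R i)) 22 4 = true := by decide +kernel
theorem c13 : rulesB R [276, 27506, 4601, 98279, 0] (fun i => sh 13 (C2.L i)) (fun i => sh 13 (C2.R i)) 26 4 = true := by decide +kernel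
theorem c14 : rulesB R [276, 27506, 4601, 98279, 0] (fun i => sh 13 (C2.L i)) (fun i => sh 13 (C2.R i)) 30 3 = true := by decide +kernel
theorem c15 : rulesB R [276, 27506, 4601, 98279, 0] (fun i => sh 13 (C2.L i)) (fun i => sh 13 (C2.R i)) 33 4 = true := by decide +kernel
theorem c16 : rulesB R [276, 27506, 4601, 98279, 0] (fun i => sh 13 (C2.L i)) (fun i => sh 13 (C2.R i)) 37 3 = true := by decide +kernel
theorem c17 : rulesB R [276, 27506, 4601, 98279, 0] (fun i => sh 13 (C2.L i)) (fun i => sh 13 (C2.R i)) 40 5 = true := by decide +kernel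
theorem c18 : rulesB R [276, 27506, 4601, 98279, 0] (fun i => sh 13 (C2.L i)) (fun i => sh 13 (C2.R i)) 45 6 = true := by decide +kernel
theorem c19 : rulesB R [276, 27506, 4601, 98279, 0] (fun i => sh 13 (C2.L i)) (fun i => sh 13 (C2.R i)) 51 5 = true := by decide +kernel
theorem c20 : rulesB R [276, 27506, 4601, 98279, 0] (fun i => sh 13 (C2.L i)) (fun i => sh 13 (C2.R i)) 56 4 = true := by decide +kernel
theorem c21 : rulesB R [276, 27506, 4601, 98279, 0] (fun i => sh 13 (C2.L i)) (fun i => sh 13 (C2.R i)) 60 6 = true := by decide +kernel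
theorem c22 : rulesB R [276, 27506, 4601, 98279, 0] (fun i => sh 13 (C2.L i)) (fun i => sh 13 (C2.R i)) 66 5 = true := by decide +kernel
theorem c23 : rulesB R [276, 27506, 4601, 98279, 0] (fun i => sh 13 (C2.L i)) (fun i => sh 13 (C2.R i)) 71 7 = true := by decide +kernel
theorem c24 : rulesB R [276, 27506, 4601, 98279, 0] (fun i => sh 13 (C2.L i)) (fun i => sh 13 (C2.R i)) 78 4 = true := by decide +kernel
theorem c25 : rulesB R [276, 27506, 4601, 98279, 0] (fun i => sh 13 (C2.L i)) (fun i => sh 13 (C2.R i)) 82 5 = true := by decide +kernel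
theorem c26 : rulesB R [276, 27506, 4601, 98279, 0] (fun i => sh 13 (C2.L i)) (fun i => sh 13 (C2.R i)) 87 7 = true := by decide +kernel
theorem c27 : rulesB R [276, 27506, 4601, 98279, 0] (fun i => sh 13 (C2.L i)) (fun i => sh 13 (C2.R i)) 94 5 = true := by decide +kernel
theorem c28 : rulesB R [276, 27506, 4601, 98279, 0] (fun i => sh 13 (C2.L i)) (fun i => sh 13 (C2.R i)) 99 7 = true := by decide +kernel
theorem c29 : rulesB R [276, 27506, 4601, 98279, 0] (fun i => sh 13 (C2.L i)) (fun i => sh 13 (C2.R i)) 106 5 = true := by decide +kernel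
theorem c30 : rulesB R [276, 27506, 4601, 98279, 0] (fun i => sh 13 (C2.L i)) (fun i => sh 13 (C2.R i)) 111 6 = true := by decide +kernel
theorem c31 : rulesB R [276, 27506, 4601, 98279, 0] (fun i => sh 13 (C2.L i)) (fun i => sh 13 (C2.R i)) 117 6 = true := by decide +kernel
theorem c32 : rulesB R [276, 27506, 4601, 98279, 0] (fun i => sh 13 (C2.L i)) (fun i => sh 13 (C2.R i)) 123 6 = true := by decide +kernel
theorem c33 : rulesB R [276, 27506, 4601, 98279, 0] (fun i => sh 13 (C2.L i)) (fun i => sh 13 (C2.R i)) 129 7 = true := by decide +kernel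
theorem c34 : rulesB R [276, 27506, 4601, 98279, 0] (fun i => sh 13 (C2.L i)) (fun i => sh 13 (C2.R i)) 136 6 = true := by decide +kernel
theorem c35 : rulesB R [276, 27506, 4601, 98279, 0] (fun i => sh 13 (C2.L i)) (fun i => sh 13 (C2.R i)) 142 7 = true := by decide +kernel
theorem c36 : rulesB R [276, 27506, 4601, 98279, 0] (fun i => sh 13 (C2.L i)) (fun i => sh 13 (C2.R i)) 149 8 = true := by decide +kernel
theorem c37 : rulesB R [276, 27506, 4601, 98279, 0] (fun i => sh 13 (C2.L i)) (fun i => sh 13 (C2.R i)) 157 6 = true := by decide +kernel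
theorem c38 : rulesB R [276, 27506, 4601, 98279, 0] (fun i => sh 13 (C2.L i)) (fun i => sh 13 (C2.R i)) 163 8 = true := by decide +kernel
theorem c39 : rulesB R [276, 27506, 4601, 98279, 0] (fun i => sh 13 (C2.L i)) (fun i => sh 13 (C2.R i)) 171 7 = true := by decide +kernel
theorem c40 : rulesB R [276, 27506, 4601, 98279, 0] (fun i => sh 13 (C2.L i)) (fun i => sh 13 (C2.R i)) 178 8 = true := by decide +kernel
theorem c41 : rulesB R [276, 27506, 4601, 98279, 0] (fun i => sh 13 (C2.L i)) (fun i => sh 13 (C2.R i)) 186 8 = true := by decide +kernel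
theorem c42 : rulesB R [276, 27506, 4601, 98279, 0] (fun i => sh 13 (C2.L i)) (fun i => sh 13 (C2.R i)) 194 8 = true := by decide +kernel
theorem c43 : rulesB R [276, 27506, 4601, 98279, 0] (fun i => sh 13 (C2.L i)) (fun i => sh 13 (C2.R i)) 202 8 = true := by decide +kernel
theorem c44 : rulesB R [276, 27506, 4601, 98279, 0] (fun i => sh 13 (C2.L i)) (fun i => sh 13 (C2.R i)) 210 8 = true := by decide +kernel
theorem c45 : rulesB R [276, 27506, 4601, 98279, 0] (fun i => sh 13 (C2.L i)) (fun i => sh 13 (C2.R i)) 218 8 = true := by decide +kernel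
theorem c46 : rulesB R [276, 27506, 4601, 98279, 0] (fun i => sh 13 (C2.L i)) (fun i => sh 13 (C2.R i)) 226 6 = true := by decide +kernel
theorem c47 : rulesB R [276, 27506, 4601, 98279, 0] (fun i => sh 13 (C2.L i)) (fun i => sh 13 (C2.R i)) 232 2 = true := by decide +kernel
theorem c48 : rulesB R [276, 27506, 4601, 98279, 0] (fun i => sh 13 (C2.L i)) (fun i => sh 13 (C2.R i)) 234 2 = true := by decide +kernel
theorem c49 : rulesB R [276, 27506, 4601, 98279, 0] (fun i => sh 13 (C2.L i)) (fun i => sh 13 (C2.R i)) 236 2 = true := by decide +kernel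
theorem c50 : rulesB R [276, 27506, 4601, 98279, 0] (fun i => sh 13 (C2.L i)) (fun i => sh 13 (C2.R i)) 238 2 = true := by decide +kernel
theorem c51 : rulesB R [276, 27506, 4601, 98279, 0] (fun i => sh 13 (C2.L i)) (fun i => sh 13 (C2.R i)) 240 3 = true := by decide +kernel
theorem c52 : rulesB R [276, 27506, 4601, 98279, 0] (fun i => sh 13 (C2.L i)) (fun i => sh 13 (C2.R i)) 243 4 = true := by decide +kernel
theorem c53 : rulesB R [276, 27506, 4601, 98279, 0] (fun i => sh 13 (C2.L i)) (fun i => sh 13 (C2.R i)) 247 4 = true := by decide +kernel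
theorem c54 : rulesB R [276, 27506, 4601, 98279, 0] (fun i => sh 13 (C2.L i)) (fun i => sh 13 (C2.R i)) 251 2 = true := by decide +kernel
theorem c55 : rulesB R [276, 27506, 4601, 98279, 0] (fun i => sh 13 (C2.L i)) (fun i => sh 13 (C2.R i)) 253 2 = true := by decide +kernel
theorem c56 : rulesB R [276, 27506, 4601, 98279, 0] (fun i => sh 13 (C2.L i)) (fun i => sh 13 (C2.R i)) 255 3 = true := by decide +kernel
theorem c57 : rulesB R [276, 27506, 4601, 98279, 0] (fun i => sh 13 (C2.L i)) (fun i => sh 13 (C2.R i)) 258 3 = true := by decide +kernel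
theorem c58 : rulesB R [276, 27506, 4601, 98279, 0] (fun i => sh 13 (C2.L i)) (fun i => sh 13 (C2.R i)) 261 3 = true := by decide +kernel
theorem c59 : rulesB R [276, 27506, 4601, 98279, 0] (fun i => sh 13 (C2.L i)) (fun i => sh 13 (C2.R i)) 264 7 = true := by decide +kernel
theorem c60 : rulesB R [276, 27506, 4601, 98279, 0] (fun i => sh 13 (C2.L i)) (fun i => sh 13 (C2.R i)) 271 2 = true := by decide +kernel
theorem c61 : rulesB R [276, 27506, 4601, 98279, 0] (fun i => sh 13 (C2.L i)) (fun i => sh 13 (C2.R i)) 273 2 = true := by decide +kernel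
theorem c62 : rulesB R [276, 27506, 4601, 98279, 0] (fun i => sh 13 (C2.L i)) (fun i => sh 13 (C2.R i)) 275 3 = true := by decide +kernel
theorem c63 : rulesB R [276, 27506, 4601, 98279, 0] (fun i => sh 13 (C2.L i)) (fun i => sh 13 (C2.R i)) 278 3 = true := by decide +kernel
theorem c64 : rulesB R [276, 27506, 4601, 98279, 0] (fun i => sh 13 (C2.L i)) (fun i => sh 13 (C2.R i)) 281 4 = true := by decide +kernel
theorem c65 : rulesB R [276, 27506, 4601, 98279, 0] (fun i => sh 13 (C2.L i)) (fun i => sh 13 (C2.R i)) 285 5 = true := by decide +kernel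
theorem c66 : rulesB R [276, 27506, 4601, 98279, 0] (fun i => sh 13 (C2.L i)) (fun i => sh 13 (C2.R i)) 290 3 = true := by decide +kernel
theorem c67 : rulesB R [276, 27506, 4601, 98279, 0] (fun i => sh 13 (C2.L i)) (fun i => sh 13 (C2.R i)) 293 3 = true := by decide +kernel
theorem c68 : rulesB R [276, 27506, 4601, 98279, 0] (fun i => sh 13 (C2.L i)) (fun i => sh 13 (C2.R i)) 296 3 = true := by decide +kernel
theorem c69 : rulesB R [276, 27506, 4601, 98279, 0] (fun i => sh 13 (C2.L i)) (fun i => sh 13 (C2.R i)) 299 3 = true := by decide +kernel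
theorem c70 : rulesB R [276, 27506, 4601, 98279, 0] (fun i => sh 13 (C2.L i)) (fun i => sh 13 (C2.R i)) 302 4 = true := by decide +kernel
theorem c71 : rulesB R [276, 27506, 4601, 98279, 0] (fun i => sh 13 (C2.L i)) (fun i => sh 13 (C2.R i)) 306 5 = true := by decide +kernel
theorem c72 : rulesB R [276, 27506, 4601, 98279, 0] (fun i => sh 13 (C2.L i)) (fun i => sh 13 (C2.R i)) 311 2 = true := by decide +kernel
theorem c73 : rulesB R [276, 27506, 4601, 98279, 0] (fun i => sh 13 (C2.L i)) (fun i => sh 13 (C2.R i)) 313 2 = true := by decide +kernel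
theorem c74 : rulesB R [276, 27506, 4601, 98279, 0] (fun i => sh 13 (C2.L i)) (fun i => sh 13 (C2.R i)) 315 3 = true := by decide +kernel
theorem c75 : rulesB R [276, 27506, 4601, 98279, 0] (fun i => sh 13 (C2.L i)) (fun i => sh 13 (C2.R i)) 318 3 = true := by decide +kernel
theorem c76 : rulesB R [276, 27506, 4601, 98279, 0] (fun i => sh 13 (C2.L i)) (fun i => sh 13 (C2.R i)) 321 4 = true := by decide +kernel
theorem c77 : rulesB R [276, 27506, 4601, 98279, 0] (fun i => sh 13 (C2.L i)) (fun i => sh 13 (C2.R i)) 325 5 = true := by decide +kernel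
theorem c78 : rulesB R [276, 27506, 4601, 98279, 0] (fun i => sh 13 (C2.L i)) (fun i => sh 13 (C2.R i)) 330 1 = true := by decide +kernel
theorem c79 : allL (Tail.chkT C2 (nat_lit 3826) (nat_lit 7)) ((tests2.drop 0).take 537) = true := by decide +kernel
theorem c80 : allL (Tail.chkT C2 (nat_lit 3826) (nat_lit 7)) ((tests2.drop 537).take 37) = true := by decide +kernel
theorem c81 : allL (Tail.rowChk C2 (nat_lit 3826) (nat_lit 7) (nat_lit 3) (tests2.map fun T => T.2.2.2) (FS2 ++ YS2.map fun Y => Y.1)) ((rows2.drop 0).take 44) = true := by decide +kernel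
end H0.QCo1
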