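import Cfsg.Agent.H0.QCo1.D
set_option maxRecDepth 100000
set_option Elab.async false
set_option linter.unusedSectionVars false
namespace H0.QCo1
open H0 BN 
theorem c82 : allL (Tail.rowChk C2 (nat_lit 3826) (nat_lit 7) (nat_lit 3) (tests2.map fun T => T.2.2.2) (FS2 ++ YS2.map fun Y => Y.1)) ((rows2.drop 44).take 39) = true := by decide +kernel
theorem c83 : allL (Tail.rowChk C2 (nat_lit 3826) (nat_lit 7) (nat_lit 3) (tests2.map fun T => T.2.2.2) (FS2 ++ YS2.map fun Y => Y.1)) ((rows2.drop 83).take 39) = true := by decide +kernel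
theorem c84 : allL (Tail.rowChk C2 (nat_lit 3826) (nat_lit 7) (nat_lit 3) (tests2.map fun T => T.2.2.2) (FS2 ++ YS2.map fun Y => Y.1)) ((rows2.drop 122).take 40) = true := by decide +kernel
theorem c85 : allL (Tail.rowChk C2 (nat_lit 3826) (nat_lit 7) (nat_lit 3) (tests2.map fun T => T.2.2.2) (FS2 ++ YS2.map fun Y => Y.1)) ((rows2.drop 162).take 43) = true := by decide +kernel
theorem c86 : allL (Tail.rowChk C2 (nat_lit 3826) (nat_lit 7) (nat_lit 3) (tests2.map fun T => T.2.2.2) (FS2 ++ YS2.map fun Y => Y.1)) ((rows2.drop 205).take 26) = true := by decide +kernel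
theorem c87 : Tail.finChk C2 (nat_lit 3826) (nat_lit 7) (nat_lit 3) (nat_lit 2) (C2.p ^ 2) av2 (tests2.map fun T => T.2.2.2) FS2 YS2 rows2 = true := by decide +kernel
theorem c88 : Model.fixP R [] [[39], [40], [41], [42], [43], [44], [45], [46], [47]] = true := by decide +kernel
theorem c89 : Model.growP R [[39], [40], [41], [42], [43], [44], [45], [46], [47]] [0, 1, 2, 3, 4, 5, 6, 7, 8, 1, 0, 2, 3, 4, 1, 2, 0, 1, 0] 0 19683 = true := by decide +kernel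
theorem c90 : rulesB R [276, 27506, 4601, 98279, 0] (fun i => sh 39 (C3.L i)) (fun i => sh 39 (C3.R i)) 0 5 = true := by decide +kernel
theorem c91 : rulesB R [276, 27506, 4601, 98279, 0] (fun i => sh 39 (C3.L i)) (fun i => sh 39 (C3.R i)) 5 6 = true := by decide +kernel
theorem c92 : rulesB R [276, 27506, 4601, 98279, 0] (fun i => sh 39 (C3.L i)) (fun i => sh 39 (C3.R i)) 11 5 = true := by decide +kernel
theorem c93 : rulesB R [276, 27506, 4601, 98279, 0] (fun i => sh 39 (C3.L i)) (fun i => sh 39 (C3.R i)) 16 6 = true := by decide +kernel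
theorem c94 : rulesB R [276, 27506, 4601, 98279, 0] (fun i => sh 39 (C3.L i)) (fun i => sh 39 (C3.R i)) 22 7 = true := by decide +kernel
theorem c95 : rulesB R [276, 27506, 4601, 98279, 0] (fun i => sh 39 (C3.L i)) (fun i => sh 39 (C3.R i)) 29 7 = true := by decide +kernel
theorem c96 : rulesB R [276, 27506, 4601, 98279, 0] (fun i => sh 39 (C3.L i)) (fun i => sh 39 (C3.R i)) 36 8 = true := by decide +kernel
theorem c97 : rulesB R [276, 27506, 4601, 98279, 0] (fun i => sh 39 (C3.L i)) (fun i => sh 39 (C3.R i)) 44 3 = true := by decide +kernel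
theorem c98 : rulesB R [276, 27506, 4601, 98279, 0] (fun i => sh 39 (C3.L i)) (fun i => sh 39 (C3.R i)) 47 3 = true := by decide +kernel
theorem c99 : rulesB R [276, 27506, 4601, 98279, 0] (fun i => sh 39 (C3.L i)) (fun i => sh 39 (C3.R i)) 50 4 = true := by decide +kernel
theorem c100 : rulesB R [276, 27506, 4601, 98279, 0] (fun i => sh 39 (C3.L i)) (fun i => sh 39 (C3.R i)) 54 2 = true := by decide +kernel
theorem c101 : rulesB R [276, 27506, 4601, 98279, 0] (fun i => sh 39 (C3.L i)) (fun i => sh 39 (C3.R i)) 56 3 = true := by decide +kernel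
theorem c102 : rulesB R [276, 27506, 4601, 98279, 0] (fun i => sh 39 (C3.L i)) (fun i => sh 39 (C3.R i)) 59 4 = true := by decide +kernel
theorem c103 : allL (Tail.chkT C3 (nat_lit 3330) (nat_lit 8)) ((tests3.drop 0).take 95) = true := by decide +kernel
theorem c104 : allL (Tail.rowChk C3 (nat_lit 3330) (nat_lit 8) (nat_lit 4) (tests3.map fun T => T.2.2.2) (FS3 ++ YS3.map fun Y => Y.1)) ((rows3.drop 0).take 45) = true := by decide +kernel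
theorem c105 : Tail.finChk C3 (nat_lit 3330) (nat_lit 8) (nat_lit 4) (nat_lit 3) (C3.p ^ 1) av3 (tests3.map fun T => T.2.2.2) FS3 YS3 rows3 = true := by decide +kernel
theorem c106 : Model.fixP R [] [[50], [51], [52], [53]] = true := by decide +kernel
theorem c107 : Model.growP R [[50], [51], [52], [53]] [0, 1, 2, 3, 1, 0, 2, 1, 0, 1, 0, 1, 0, 1, 0] 0 625 = true := by decide +kernel
theorem c108 : rulesB R [276, 27506, 4601, 98279, 0] (fun i => sh 50 (C5.L i)) (fun i => sh 50 (C5.R i)) 0 6 = true := by decide +kernel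
theorem c109 : rulesB R [276, 27506, 4601, 98279, 0] (fun i => sh 50 (C5.L i)) (fun i => sh 50 (C5.R i)) 6 5 = true := by decide +kernel
theorem c110 : rulesB R [276, 27506, 4601, 98279, 0] (fun i => sh 50 (C5.L i)) (fun i => sh 50 (C5.R i)) 11 3 = true := by decide +kernel
theorem c111 : allL (Tail.chkT C5 (nat_lit 821) (nat_lit 24)) ((tests5.drop 0).take 16) = true := by decide +kernel
theorem c112 : allL (Tail.rowChk C5 (nat_lit 821) (nat_lit 24) (nat_lit 5) (tests5.map fun T => T.2.2.2) (FS5 ++ YS5.map fun Y => Y.1)) ((rows5.drop 0).take 10) = true := by decide +kernel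
theorem c113 : Tail.finChk C5 (nat_lit 821) (nat_lit 24) (nat_lit 5) (nat_lit 5) (C5.p ^ 1) av5 (tests5.map fun T => T.2.2.2) FS5 YS5 rows5 = true := by decide +kernel
theorem c114 : Model.fixP R [] [[55], [56]] = true := by decide +kernel
theorem c115 : Model.growP R [[55], [56]] [0, 1, 0, 1, 0, 1, 0, 1, 0, 1, 0, 1] 0 49 = true := by decide +kernel
theorem c116 : rulesB R [276, 27506, 4601, 98279, 0] (fun i => sh 55 (C7.L i)) (fun i => sh 55 (C7.R i)) 0 4 = true := by decide +kernel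
theorem c117 : rulesB R [276, 27506, 4601, 98279, 0] (fun i => sh 55 (C7.L i)) (fun i => sh 55 (C7.R i)) 4 1 = true := by decide +kernel
theorem c118 : allL (Tail.chkT C7 (nat_lit 577) (nat_lit 48)) ((tests7.drop 0).take 4) = true := by decide +kernel
theorem c119 : allL (Tail.rowChk C7 (nat_lit 577) (nat_lit 48) (nat_lit 6) (tests7.map fun T => T.2.2.2) (FS7 ++ YS7.map fun Y => Y.1)) ((rows7.drop 0).take 3) = true := by decide +kernel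
theorem c120 : Tail.finChk C7 (nat_lit 577) (nat_lit 48) (nat_lit 6) (nat_lit 7) (C7.p ^ 1) av7 (tests7.map fun T => T.2.2.2) FS7 YS7 rows7 = true := by decide +kernel
theorem c121 : eqW R 0 3 [57] [0, 1, 0, 2, 1, 2, 0, 1, 0, 2, 1, 0, 2, 1, 0, 4, 4, 3, 4, 3, 3, 4, 4, 3, 4, 3, 3, 4, 3, 3, 3, 5, 5, 6, 6, 6, 5, 6, 5, 6, 6, 6, 5, 5, 8, 7, 7, 8, 7, 8, 8, 7, 7, 8, 7] = true := by decide +kernel
theorem c122 : eqW R 3 3 [57] [0, 1, 0, 2, 1, 2, 0, 1, 0, 2, 1, 0, 2, 1, 0, 4, 4, 3, 4, 3, 3, 4, 4, 3, 4, 3, 3, 4, 3, 3, 3, 5, 5, 6, 6, 6, 5, 6, 5, 6, 6, 6, 5, 5, 8, 7, 7, 8, 7, 8, 8, 7, 7, 8, 7] = true := by decide +kernel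
theorem c123 : eqW R 6 3 [57] [0, 1, 0, 2, 1, 2, 0, 1, 0, 2, 1, 0, 2, 1, 0, 4, 4, 3, 4, 3, 3, 4, 4, 3, 4, 3, 3, 4, 3, 3, 3, 5, 5, 6, 6, 6, 5, 6, 5, 6, 6, 6, 5, 5, 8, 7, 7, 8, 7, 8, 8, 7, 7, 8, 7] = true := by decide +kernel
theorem c124 : eqW R 9 3 [57] [0, 1, 0, 2, 1, 2, 0, 1, 0, 2, 1, 0, 2, 1, 0, 4, 4, 3, 4, 3, 3, 4, 4, 3, 4, 3, 3, 4, 3, 3, 3, 5, 5, 6, 6, 6, 5, 6, 5, 6, 6, 6, 5, 5, 8, 7, 7, 8, 7, 8, 8, 7, 7, 8, 7] = true := by decide +kernel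
theorem c125 : eqW R 12 3 [57] [0, 1, 0, 2, 1, 2, 0, 1, 0, 2, 1, 0, 2, 1, 0, 4, 4, 3, 4, 3, 3, 4, 4, 3, 4, 3, 3, 4, 3, 3, 3, 5, 5, 6, 6, 6, 5, 6, 5, 6, 6, 6, 5, 5, 8, 7, 7, 8, 7, 8, 8, 7, 7, 8, 7] = true := by decide +kernel
theorem c126 : eqW R 15 2 [57] [0, 1, 0, 2, 1, 2, 0, 1, 0, 2, 1, 0, 2, 1, 0, 4, 4, 3, 4, 3, 3, 4, 4, 3, 4, 3, 3, 4, 3, 3, 3, 5, 5, 6, 6, 6, 5, 6, 5, 6, 6, 6, 5, 5, 8, 7, 7, 8, 7, 8, 8, 7, 7, 8, 7] = true := by decide +kernel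
theorem c127 : eqW R 0 3 [56] [1, 2, 1, 2, 1, 2, 0, 1, 0, 1, 2, 1, 0, 2, 1, 0, 1, 3, 4, 3, 3, 4, 4, 3, 3, 3, 3, 3, 4, 4, 3, 3, 4, 3, 3, 6, 5, 5, 6, 5, 6, 6, 5, 5, 6, 5, 5, 6, 5, 8, 8, 8, 7, 7, 7, 8, 7, 8, 7, 7, 10, 10] = true := by decide +kernel
theorem c128 : eqW R 3 3 [56] [1, 2, 1, 2, 1, 2, 0, 1, 0, 1, 2, 1, 0, 2, 1, 0, 1, 3, 4, 3, 3, 4, 4, 3, 3, 3, 3, 3, 4, 4, 3, 3, 4, 3, 3, 6, 5, 5, 6, 5, 6, 6, 5, 5, 6, 5, 5, 6, 5, 8, 8, 8, 7, 7, 7, 8, 7, 8, 7, 7, 10, 10] = true := by decide +kernel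
theorem c129 : eqW R 6 3 [56] [1, 2, 1, 2, 1, 2, 0, 1, 0, 1, 2, 1, 0, 2, 1, 0, 1, 3, 4, 3, 3, 4, 4, 3, 3, 3, 3, 3, 4, 4, 3, 3, 4, 3, 3, 6, 5, 5, 6, 5, 6, 6, 5, 5, 6, 5, 5, 6, 5, 8, 8, 8, 7, 7, 7, 8, 7, 8, 7, 7, 10, 10] = true := by decide +kernel
theorem c130 : eqW R 9 3 [56] [1, 2, 1, 2, 1, 2, 0, 1, 0, 1, 2, 1, 0, 2, 1, 0, 1, 3, 4, 3, 3, 4, 4, 3, 3, 3, 3, 3, 4, 4, 3, 3, 4, 3, 3, 6, 5, 5, 6, 5, 6, 6, 5, 5, 6, 5, 5, 6, 5, 8, 8, 8, 7, 7, 7, 8, 7, 8, 7, 7, 10, 10] = true := by decide +kernel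
theorem c131 : eqW R 12 3 [56] [1, 2, 1, 2, 1, 2, 0, 1, 0, 1, 2, 1, 0, 2, 1, 0, 1, 3, 4, 3, 3, 4, 4, 3, 3, 3, 3, 3, 4, 4, 3, 3, 4, 3, 3, 6, 5, 5, 6, 5, 6, 6, 5, 5, 6, 5, 5, 6, 5, 8, 8, 8, 7, 7, 7, 8, 7, 8, 7, 7, 10, 10] = true := by decide +kernel
theorem c132 : eqW R 15 2 [56] [1, 2, 1, 2, 1, 2, 0, 1, 0, 1, 2, 1, 0, 2, 1, 0, 1, 3, 4, 3, 3, 4, 4, 3, 3, 3, 3, 3, 4, 4, 3, 3, 4, 3, 3, 6, 5, 5, 6, 5, 6, 6, 5, 5, 6, 5, 5, 6, 5, 8, 8, 8, 7, 7, 7, 8, 7, 8, 7, 7, 10, 10] = true := by decide +kernel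
theorem c133 : eqW R 0 3 [55] [0, 2, 1, 0, 1, 2, 0, 2, 0, 1, 0, 1, 2, 1, 2, 4, 3, 4, 4, 3, 4, 3, 4, 4, 3, 3, 3, 3, 4, 4, 3, 4, 3, 5, 5, 6, 6, 5, 5, 6, 6, 6, 5, 6, 5, 6, 6, 6, 7, 8, 8, 8, 7, 7, 7, 7, 10, 10] = true := by decide +kernel
theorem c134 : eqW R 3 3 [55] [0, 2, 1, 0, 1, 2, 0, 2, 0, 1, 0, 1, 2, 1, 2, 4, 3, 4, 4, 3, 4, 3, 4, 4, 3, 3, 3, 3, 4, 4, 3, 4, 3, 5, 5, 6, 6, 5, 5, 6, 6, 6, 5, 6, 5, 6, 6, 6, 7, 8, 8, 8, 7, 7, 7, 7, 10, 10] = true := by decide +kernel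
theorem c135 : eqW R 6 3 [55] [0, 2, 1, 0, 1, 2, 0, 2, 0, 1, 0, 1, 2, 1, 2, 4, 3, 4, 4, 3, 4, 3, 4, 4, 3, 3, 3, 3, 4, 4, 3, 4, 3, 5, 5, 6, 6, 5, 5, 6, 6, 6, 5, 6, 5, 6, 6, 6, 7, 8, 8, 8, 7, 7, 7, 7, 10, 10] = true := by decide +kernel
theorem c136 : eqW R 9 3 [55] [0, 2, 1, 0, 1, 2, 0, 2, 0, 1, 0, 1, 2, 1, 2, 4, 3, 4, 4, 3, 4, 3, 4, 4, 3, 3, 3, 3, 4, 4, 3, 4, 3, 5, 5, 6, 6, 5, 5, 6, 6, 6, 5, 6, 5, 6, 6, 6, 7, 8, 8, 8, 7, 7, 7, 7, 10, 10] = true := by decide +kernel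
theorem c137 : eqW R 12 3 [55] [0, 2, 1, 0, 1, 2, 0, 2, 0, 1, 0, 1, 2, 1, 2, 4, 3, 4, 4, 3, 4, 3, 4, 4, 3, 3, 3, 3, 4, 4, 3, 4, 3, 5, 5, 6, 6, 5, 5, 6, 6, 6, 5, 6, 5, 6, 6, 6, 7, 8, 8, 8, 7, 7, 7, 7, 10, 10] = true := by decide +kernel
theorem c138 : eqW R 15 2 [55] [0, 2, 1, 0, 1, 2, 0, 2, 0, 1, 0, 1, 2, 1, 2, 4, 3, 4, 4, 3, 4, 3, 4, 4, 3, 3, 3, 3, 4, 4, 3, 4, 3, 5, 5, 6, 6, 5, 5, 6, 6, 6, 5, 6, 5, 6, 6, 6, 7, 8, 8, 8, 7, 7, 7, 7, 10, 10] = true := by decide +kernel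
theorem c139 : eqW R 0 3 [54] [2, 1, 2, 1, 2, 1, 2, 1, 2, 1, 2, 0, 2, 1, 0, 1, 0, 3, 3, 4, 3, 3, 4, 4, 3, 4, 3, 3, 3, 4, 4, 6, 6, 5, 5, 5, 5, 5, 5, 5, 6, 6, 6, 6, 6, 5, 7, 8, 8, 7, 7, 7, 7, 7, 7, 7, 7, 7, 7, 9, 10] = true := by decide +kernel
theorem c140 : eqW R 3 3 [54] [2, 1, 2, 1, 2, 1, 2, 1, 2, 1, 2, 0, 2, 1, 0, 1, 0, 3, 3, 4, 3, 3, 4, 4, 3, 4, 3, 3, 3, 4, 4, 6, 6, 5, 5, 5, 5, 5, 5, 5, 6, 6, 6, 6, 6, 5, 7, 8, 8, 7, 7, 7, 7, 7, 7, 7, 7, 7, 7, 9, 10] = true := by decide +kernel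
end H0.QCo1
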