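import Cfsg.Agent.H0.QCo1.D
set_option maxRecDepth 100000
set_option Elab.async false
set_option linter.unusedSectionVars false
namespace H0.QCo1
open H0 BN 
theorem c141 : eqW R 6 3 [54] [2, 1, 2, 1, 2, 1, 2, 1, 2, 1, 2, 0, 2, 1, 0, 1, 0, 3, 3, 4, 3, 3, 4, 4, 3, 4, 3, 3, 3, 4, 4, 6, 6, 5, 5, 5, 5, 5, 5, 5, 6, 6, 6, 6, 6, 5, 7, 8, 8, 7, 7, 7, 7, 7, 7, 7, 7, 7, 7, 9, 10] = true := by decide +kernel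
theorem c142 : eqW R 9 3 [54] [2, 1, 2, 1, 2, 1, 2, 1, 2, 1, 2, 0, 2, 1, 0, 1, 0, 3, 3, 4, 3, 3, 4, 4, 3, 4, 3, 3, 3, 4, 4, 6, 6, 5, 5, 5, 5, 5, 5, 5, 6, 6, 6, 6, 6, 5, 7, 8, 8, 7, 7, 7, 7, 7, 7, 7, 7, 7, 7, 9, 10] = true := by decide +kernel
theorem c143 : eqW R 12 3 [54] [2, 1, 2, 1, 2, 1, 2, 1, 2, 1, 2, 0, 2, 1, 0, 1, 0, 3, 3, 4, 3, 3, 4, 4, 3, 4, 3, 3, 3, 4, 4, 6, 6, 5, 5, 5, 5, 5, 5, 5, 6, 6, 6, 6, 6, 5, 7, 8, 8, 7, 7, 7, 7, 7, 7, 7, 7, 7, 7, 9, 10] = true := by decide +kernel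
theorem c144 : eqW R 15 2 [54] [2, 1, 2, 1, 2, 1, 2, 1, 2, 1, 2, 0, 2, 1, 0, 1, 0, 3, 3, 4, 3, 3, 4, 4, 3, 4, 3, 3, 3, 4, 4, 6, 6, 5, 5, 5, 5, 5, 5, 5, 6, 6, 6, 6, 6, 5, 7, 8, 8, 7, 7, 7, 7, 7, 7, 7, 7, 7, 7, 9, 10] = true := by decide +kernel
theorem c145 : eqW R 0 3 [53] [52, 52, 52, 52, 50, 50, 50, 50, 52, 50] = true := by decide +kernel
theorem c146 : eqW R 3 3 [53] [52, 52, 52, 52, 50, 50, 50, 50, 52, 50] = true := by decide +kernel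
theorem c147 : eqW R 6 3 [53] [52, 52, 52, 52, 50, 50, 50, 50, 52, 50] = true := by decide +kernel
theorem c148 : eqW R 9 3 [53] [52, 52, 52, 52, 50, 50, 50, 50, 52, 50] = true := by decide +kernel
theorem c149 : eqW R 12 3 [53] [52, 52, 52, 52, 50, 50, 50, 50, 52, 50] = true := by decide +kernel
theorem c150 : eqW R 15 2 [53] [52, 52, 52, 52, 50, 50, 50, 50, 52, 50] = true := by decide +kernel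
theorem c151 : eqW R 0 3 [52] [51, 51, 51, 51, 50, 50, 50, 50, 51, 50] = true := by decide +kernel
theorem c152 : eqW R 3 3 [52] [51, 51, 51, 51, 50, 50, 50, 50, 51, 50] = true := by decide +kernel
theorem c153 : eqW R 6 3 [52] [51, 51, 51, 51, 50, 50, 50, 50, 51, 50] = true := by decide +kernel
theorem c154 : eqW R 9 3 [52] [51, 51, 51, 51, 50, 50, 50, 50, 51, 50] = true := by decide +kernel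
theorem c155 : eqW R 12 3 [52] [51, 51, 51, 51, 50, 50, 50, 50, 51, 50] = true := by decide +kernel
theorem c156 : eqW R 15 2 [52] [51, 51, 51, 51, 50, 50, 50, 50, 51, 50] = true := by decide +kernel
theorem c157 : eqW R 0 3 [51] [1, 2, 0, 2, 1, 0, 2, 1, 2, 0, 1, 2, 1, 3, 3, 3, 3, 4, 3, 3, 4, 4, 3, 3, 3, 3, 3, 3, 3, 3, 4, 6, 5, 6, 6, 5, 5, 5, 6, 6, 6, 5, 5, 5, 6, 7, 7, 8, 8, 8, 7, 8, 7, 10] = true := by decide +kernel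
theorem c158 : eqW R 3 3 [51] [1, 2, 0, 2, 1, 0, 2, 1, 2, 0, 1, 2, 1, 3, 3, 3, 3, 4, 3, 3, 4, 4, 3, 3, 3, 3, 3, 3, 3, 3, 4, 6, 5, 6, 6, 5, 5, 5, 6, 6, 6, 5, 5, 5, 6, 7, 7, 8, 8, 8, 7, 8, 7, 10] = true := by decide +kernel
theorem c159 : eqW R 6 3 [51] [1, 2, 0, 2, 1, 0, 2, 1, 2, 0, 1, 2, 1, 3, 3, 3, 3, 4, 3, 3, 4, 4, 3, 3, 3, 3, 3, 3, 3, 3, 4, 6, 5, 6, 6, 5, 5, 5, 6, 6, 6, 5, 5, 5, 6, 7, 7, 8, 8, 8, 7, 8, 7, 10] = true := by decide +kernel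
theorem c160 : eqW R 9 3 [51] [1, 2, 0, 2, 1, 0, 2, 1, 2, 0, 1, 2, 1, 3, 3, 3, 3, 4, 3, 3, 4, 4, 3, 3, 3, 3, 3, 3, 3, 3, 4, 6, 5, 6, 6, 5, 5, 5, 6, 6, 6, 5, 5, 5, 6, 7, 7, 8, 8, 8, 7, 8, 7, 10] = true := by decide +kernel
theorem c161 : eqW R 12 3 [51] [1, 2, 0, 2, 1, 0, 2, 1, 2, 0, 1, 2, 1, 3, 3, 3, 3, 4, 3, 3, 4, 4, 3, 3, 3, 3, 3, 3, 3, 3, 4, 6, 5, 6, 6, 5, 5, 5, 6, 6, 6, 5, 5, 5, 6, 7, 7, 8, 8, 8, 7, 8, 7, 10] = true := by decide +kernel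
theorem c162 : eqW R 15 2 [51] [1, 2, 0, 2, 1, 0, 2, 1, 2, 0, 1, 2, 1, 3, 3, 3, 3, 4, 3, 3, 4, 4, 3, 3, 3, 3, 3, 3, 3, 3, 4, 6, 5, 6, 6, 5, 5, 5, 6, 6, 6, 5, 5, 5, 6, 7, 7, 8, 8, 8, 7, 8, 7, 10] = true := by decide +kernel
theorem c163 : eqW R 0 3 [50] [0, 2, 1, 0, 1, 0, 2, 0, 2, 1, 2, 0, 1, 0, 1, 3, 4, 3, 3, 4, 3, 3, 4, 3, 3, 3, 3, 3, 3, 3, 4, 4, 3, 3, 5, 6, 5, 6, 6, 5, 5, 6, 5, 5, 6, 7, 8, 8, 8, 7, 7, 7, 8, 8, 7, 9, 10] = true := by decide +kernel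
theorem c164 : eqW R 3 3 [50] [0, 2, 1, 0, 1, 0, 2, 0, 2, 1, 2, 0, 1, 0, 1, 3, 4, 3, 3, 4, 3, 3, 4, 3, 3, 3, 3, 3, 3, 3, 4, 4, 3, 3, 5, 6, 5, 6, 6, 5, 5, 6, 5, 5, 6, 7, 8, 8, 8, 7, 7, 7, 8, 8, 7, 9, 10] = true := by decide +kernel
theorem c165 : eqW R 6 3 [50] [0, 2, 1, 0, 1, 0, 2, 0, 2, 1, 2, 0, 1, 0, 1, 3, 4, 3, 3, 4, 3, 3, 4, 3, 3, 3, 3, 3, 3, 3, 4, 4, 3, 3, 5, 6, 5, 6, 6, 5, 5, 6, 5, 5, 6, 7, 8, 8, 8, 7, 7, 7, 8, 8, 7, 9, 10] = true := by decide +kernel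
theorem c166 : eqW R 9 3 [50] [0, 2, 1, 0, 1, 0, 2, 0, 2, 1, 2, 0, 1, 0, 1, 3, 4, 3, 3, 4, 3, 3, 4, 3, 3, 3, 3, 3, 3, 3, 4, 4, 3, 3, 5, 6, 5, 6, 6, 5, 5, 6, 5, 5, 6, 7, 8, 8, 8, 7, 7, 7, 8, 8, 7, 9, 10] = true := by decide +kernel
theorem c167 : eqW R 12 3 [50] [0, 2, 1, 0, 1, 0, 2, 0, 2, 1, 2, 0, 1, 0, 1, 3, 4, 3, 3, 4, 3, 3, 4, 3, 3, 3, 3, 3, 3, 3, 4, 4, 3, 3, 5, 6, 5, 6, 6, 5, 5, 6, 5, 5, 6, 7, 8, 8, 8, 7, 7, 7, 8, 8, 7, 9, 10] = true := by decide +kernel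
theorem c168 : eqW R 15 2 [50] [0, 2, 1, 0, 1, 0, 2, 0, 2, 1, 2, 0, 1, 0, 1, 3, 4, 3, 3, 4, 3, 3, 4, 3, 3, 3, 3, 3, 3, 3, 4, 4, 3, 3, 5, 6, 5, 6, 6, 5, 5, 6, 5, 5, 6, 7, 8, 8, 8, 7, 7, 7, 8, 8, 7, 9, 10] = true := by decide +kernel
theorem c169 : eqW R 0 3 [49] [0, 2, 0, 1, 2, 0, 1, 2, 0, 2, 1, 2, 1, 2, 0, 2, 1, 3, 4, 3, 4, 4, 3, 3, 3, 4, 3, 3, 3, 4, 3, 3, 4, 6, 5, 5, 5, 6, 6, 5, 6, 5, 8, 8, 7, 8, 7, 7, 7, 7, 7, 8, 10, 10] = true := by decide +kernel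
theorem c170 : eqW R 3 3 [49] [0, 2, 0, 1, 2, 0, 1, 2, 0, 2, 1, 2, 1, 2, 0, 2, 1, 3, 4, 3, 4, 4, 3, 3, 3, 4, 3, 3, 3, 4, 3, 3, 4, 6, 5, 5, 5, 6, 6, 5, 6, 5, 8, 8, 7, 8, 7, 7, 7, 7, 7, 8, 10, 10] = true := by decide +kernel
theorem c171 : eqW R 6 3 [49] [0, 2, 0, 1, 2, 0, 1, 2, 0, 2, 1, 2, 1, 2, 0, 2, 1, 3, 4, 3, 4, 4, 3, 3, 3, 4, 3, 3, 3, 4, 3, 3, 4, 6, 5, 5, 5, 6, 6, 5, 6, 5, 8, 8, 7, 8, 7, 7, 7, 7, 7, 8, 10, 10] = true := by decide +kernel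
theorem c172 : eqW R 9 3 [49] [0, 2, 0, 1, 2, 0, 1, 2, 0, 2, 1, 2, 1, 2, 0, 2, 1, 3, 4, 3, 4, 4, 3, 3, 3, 4, 3, 3, 3, 4, 3, 3, 4, 6, 5, 5, 5, 6, 6, 5, 6, 5, 8, 8, 7, 8, 7, 7, 7, 7, 7, 8, 10, 10] = true := by decide +kernel
theorem c173 : eqW R 12 3 [49] [0, 2, 0, 1, 2, 0, 1, 2, 0, 2, 1, 2, 1, 2, 0, 2, 1, 3, 4, 3, 4, 4, 3, 3, 3, 4, 3, 3, 3, 4, 3, 3, 4, 6, 5, 5, 5, 6, 6, 5, 6, 5, 8, 8, 7, 8, 7, 7, 7, 7, 7, 8, 10, 10] = true := by decide +kernel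
theorem c174 : eqW R 15 2 [49] [0, 2, 0, 1, 2, 0, 1, 2, 0, 2, 1, 2, 1, 2, 0, 2, 1, 3, 4, 3, 4, 4, 3, 3, 3, 4, 3, 3, 3, 4, 3, 3, 4, 6, 5, 5, 5, 6, 6, 5, 6, 5, 8, 8, 7, 8, 7, 7, 7, 7, 7, 8, 10, 10] = true := by decide +kernel
theorem c175 : eqW R 0 3 [48] [0, 1, 2, 1, 2, 0, 2, 1, 2, 0, 2, 0, 4, 3, 3, 3, 3, 4, 3, 4, 4, 3, 3, 4, 4, 3, 4, 3, 4, 5, 6, 5, 6, 6, 6, 5, 6, 5, 6, 5, 5, 7, 8, 8, 7, 8, 7, 8, 7, 7, 7, 8, 7, 10, 10] = true := by decide +kernel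
theorem c176 : eqW R 3 3 [48] [0, 1, 2, 1, 2, 0, 2, 1, 2, 0, 2, 0, 4, 3, 3, 3, 3, 4, 3, 4, 4, 3, 3, 4, 4, 3, 4, 3, 4, 5, 6, 5, 6, 6, 6, 5, 6, 5, 6, 5, 5, 7, 8, 8, 7, 8, 7, 8, 7, 7, 7, 8, 7, 10, 10] = true := by decide +kernel
theorem c177 : eqW R 6 3 [48] [0, 1, 2, 1, 2, 0, 2, 1, 2, 0, 2, 0, 4, 3, 3, 3, 3, 4, 3, 4, 4, 3, 3, 4, 4, 3, 4, 3, 4, 5, 6, 5, 6, 6, 6, 5, 6, 5, 6, 5, 5, 7, 8, 8, 7, 8, 7, 8, 7, 7, 7, 8, 7, 10, 10] = true := by decide +kernel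
theorem c178 : eqW R 9 3 [48] [0, 1, 2, 1, 2, 0, 2, 1, 2, 0, 2, 0, 4, 3, 3, 3, 3, 4, 3, 4, 4, 3, 3, 4, 4, 3, 4, 3, 4, 5, 6, 5, 6, 6, 6, 5, 6, 5, 6, 5, 5, 7, 8, 8, 7, 8, 7, 8, 7, 7, 7, 8, 7, 10, 10] = true := by decide +kernel
theorem c179 : eqW R 12 3 [48] [0, 1, 2, 1, 2, 0, 2, 1, 2, 0, 2, 0, 4, 3, 3, 3, 3, 4, 3, 4, 4, 3, 3, 4, 4, 3, 4, 3, 4, 5, 6, 5, 6, 6, 6, 5, 6, 5, 6, 5, 5, 7, 8, 8, 7, 8, 7, 8, 7, 7, 7, 8, 7, 10, 10] = true := by decide +kernel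
theorem c180 : eqW R 15 2 [48] [0, 1, 2, 1, 2, 0, 2, 1, 2, 0, 2, 0, 4, 3, 3, 3, 3, 4, 3, 4, 4, 3, 3, 4, 4, 3, 4, 3, 4, 5, 6, 5, 6, 6, 6, 5, 6, 5, 6, 5, 5, 7, 8, 8, 7, 8, 7, 8, 7, 7, 7, 8, 7, 10, 10] = true := by decide +kernel
theorem c181 : eqW R 0 3 [47] [46, 46, 39, 39, 46, 39] = true := by decide +kernel
theorem c182 : eqW R 3 3 [47] [46, 46, 39, 39, 46, 39] = true := by decide +kernel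
theorem c183 : eqW R 6 3 [47] [46, 46, 39, 39, 46, 39] = true := by decide +kernel
theorem c184 : eqW R 9 3 [47] [46, 46, 39, 39, 46, 39] = true := by decide +kernel
theorem c185 : eqW R 12 3 [47] [46, 46, 39, 39, 46, 39] = true := by decide +kernel
theorem c186 : eqW R 15 2 [47] [46, 46, 39, 39, 46, 39] = true := by decide +kernel
theorem c187 : eqW R 0 3 [46] [44, 44, 40, 40, 40, 40, 40, 40, 40, 40, 44, 40] = true := by decide +kernel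
theorem c188 : eqW R 3 3 [46] [44, 44, 40, 40, 40, 40, 40, 40, 40, 40, 44, 40] = true := by decide +kernel
theorem c189 : eqW R 6 3 [46] [44, 44, 40, 40, 40, 40, 40, 40, 40, 40, 44, 40] = true := by decide +kernel
theorem c190 : eqW R 9 3 [46] [44, 44, 40, 40, 40, 40, 40, 40, 40, 40, 44, 40] = true := by decide +kernel
theorem c191 : eqW R 12 3 [46] [44, 44, 40, 40, 40, 40, 40, 40, 40, 40, 44, 40] = true := by decide +kernel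
theorem c192 : eqW R 15 2 [46] [44, 44, 40, 40, 40, 40, 40, 40, 40, 40, 44, 40] = true := by decide +kernel
theorem c193 : eqW R 0 3 [45] [42, 42, 40, 40, 40, 40, 40, 40, 40, 40, 42, 40] = true := by decide +kernel
theorem c194 : eqW R 3 3 [45] [42, 42, 40, 40, 40, 40, 40, 40, 40, 40, 42, 40] = true := by decide +kernel
theorem c195 : eqW R 6 3 [45] [42, 42, 40, 40, 40, 40, 40, 40, 40, 40, 42, 40] = true := by decide +kernel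
theorem c196 : eqW R 9 3 [45] [42, 42, 40, 40, 40, 40, 40, 40, 40, 40, 42, 40] = true := by decide +kernel
theorem c197 : eqW R 12 3 [45] [42, 42, 40, 40, 40, 40, 40, 40, 40, 40, 42, 40] = true := by decide +kernel
theorem c198 : eqW R 15 2 [45] [42, 42, 40, 40, 40, 40, 40, 40, 40, 40, 42, 40] = true := by decide +kernel
theorem c199 : eqW R 0 3 [44] [42, 42, 39, 39, 42, 39] = true := by decide +kernel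
theorem c200 : eqW R 3 3 [44] [42, 42, 39, 39, 42, 39] = true := by decide +kernel
theorem c201 : eqW R 6 3 [44] [42, 42, 39, 39, 42, 39] = true := by decide +kernel
theorem c202 : eqW R 9 3 [44] [42, 42, 39, 39, 42, 39] = true := by decide +kernel
theorem c203 : eqW R 12 3 [44] [42, 42, 39, 39, 42, 39] = true := by decide +kernel
theorem c204 : eqW R 15 2 [44] [42, 42, 39, 39, 42, 39] = true := by decide +kernel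
theorem c205 : eqW R 0 3 [43] [41, 41, 41, 41, 41, 41, 41, 41, 39, 39, 41, 39] = true := by decide +kernel
theorem c206 : eqW R 3 3 [43] [41, 41, 41, 41, 41, 41, 41, 41, 39, 39, 41, 39] = true := by decide +kernel
theorem c207 : eqW R 6 3 [43] [41, 41, 41, 41, 41, 41, 41, 41, 39, 39, 41, 39] = true := by decide +kernel
theorem c208 : eqW R 9 3 [43] [41, 41, 41, 41, 41, 41, 41, 41, 39, 39, 41, 39] = true := by decide +kernel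
theorem c209 : eqW R 12 3 [43] [41, 41, 41, 41, 41, 41, 41, 41, 39, 39, 41, 39] = true := by decide +kernel
theorem c210 : eqW R 15 2 [43] [41, 41, 41, 41, 41, 41, 41, 41, 39, 39, 41, 39] = true := by decide +kernel
theorem c211 : eqW R 0 3 [42] [40, 40, 40, 40, 40, 40, 40, 40, 39, 39, 40, 39] = true := by decide +kernel
theorem c212 : eqW R 3 3 [42] [40, 40, 40, 40, 40, 40, 40, 40, 39, 39, 40, 39] = true := by decide +kernel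
theorem c213 : eqW R 6 3 [42] [40, 40, 40, 40, 40, 40, 40, 40, 39, 39, 40, 39] = true := by decide +kernel
theorem c214 : eqW R 9 3 [42] [40, 40, 40, 40, 40, 40, 40, 40, 39, 39, 40, 39] = true := by decide +kernel
theorem c215 : eqW R 12 3 [42] [40, 40, 40, 40, 40, 40, 40, 40, 39, 39, 40, 39] = true := by decide +kernel
theorem c216 : eqW R 15 2 [42] [40, 40, 40, 40, 40, 40, 40, 40, 39, 39, 40, 39] = true := by decide +kernel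
theorem c217 : eqW R 0 3 [41] [2, 1, 2, 0, 1, 0, 2, 1, 2, 1, 0, 1, 3, 3, 4, 4, 3, 4, 4, 3, 3, 3, 3, 4, 4, 3, 4, 4, 3, 3, 3, 6, 5, 5, 6, 5, 5, 5, 6, 6, 5, 6, 5, 7, 7, 8, 8, 8, 8, 7, 7, 8, 8, 8, 9] = true := by decide +kernel
theorem c218 : eqW R 3 3 [41] [2, 1, 2, 0, 1, 0, 2, 1, 2, 1, 0, 1, 3, 3, 4, 4, 3, 4, 4, 3, 3, 3, 3, 4, 4, 3, 4, 4, 3, 3, 3, 6, 5, 5, 6, 5, 5, 5, 6, 6, 5, 6, 5, 7, 7, 8, 8, 8, 8, 7, 7, 8, 8, 8, 9] = true := by decide +kernel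
theorem c219 : eqW R 6 3 [41] [2, 1, 2, 0, 1, 0, 2, 1, 2, 1, 0, 1, 3, 3, 4, 4, 3, 4, 4, 3, 3, 3, 3, 4, 4, 3, 4, 4, 3, 3, 3, 6, 5, 5, 6, 5, 5, 5, 6, 6, 5, 6, 5, 7, 7, 8, 8, 8, 8, 7, 7, 8, 8, 8, 9] = true := by decide +kernel
theorem c220 : eqW R 9 3 [41] [2, 1, 2, 0, 1, 0, 2, 1, 2, 1, 0, 1, 3, 3, 4, 4, 3, 4, 4, 3, 3, 3, 3, 4, 4, 3, 4, 4, 3, 3, 3, 6, 5, 5, 6, 5, 5, 5, 6, 6, 5, 6, 5, 7, 7, 8, 8, 8, 8, 7, 7, 8, 8, 8, 9] = true := by decide +kernel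
theorem c221 : eqW R 12 3 [41] [2, 1, 2, 0, 1, 0, 2, 1, 2, 1, 0, 1, 3, 3, 4, 4, 3, 4, 4, 3, 3, 3, 3, 4, 4, 3, 4, 4, 3, 3, 3, 6, 5, 5, 6, 5, 5, 5, 6, 6, 5, 6, 5, 7, 7, 8, 8, 8, 8, 7, 7, 8, 8, 8, 9] = true := by decide +kernel
theorem c222 : eqW R 15 2 [41] [2, 1, 2, 0, 1, 0, 2, 1, 2, 1, 0, 1, 3, 3, 4, 4, 3, 4, 4, 3, 3, 3, 3, 4, 4, 3, 4, 4, 3, 3, 3, 6, 5, 5, 6, 5, 5, 5, 6, 6, 5, 6, 5, 7, 7, 8, 8, 8, 8, 7, 7, 8, 8, 8, 9] = true := by decide +kernel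
theorem c223 : eqW R 0 3 [40] [0, 2, 1, 0, 1, 2, 1, 2, 0, 2, 0, 2, 1, 0, 1, 2, 0, 3, 4, 3, 3, 4, 3, 4, 4, 3, 3, 3, 4, 3, 4, 3, 3, 6, 5, 6, 6, 5, 5, 5, 6, 5, 6, 5, 6, 5, 7, 7, 8, 8, 7, 8, 8, 7, 7, 8, 7, 7, 10, 10] = true := by decide +kernel
theorem c224 : eqW R 3 3 [40] [0, 2, 1, 0, 1, 2, 1, 2, 0, 2, 0, 2, 1, 0, 1, 2, 0, 3, 4, 3, 3, 4, 3, 4, 4, 3, 3, 3, 4, 3, 4, 3, 3, 6, 5, 6, 6, 5, 5, 5, 6, 5, 6, 5, 6, 5, 7, 7, 8, 8, 7, 8, 8, 7, 7, 8, 7, 7, 10, 10] = true := by decide +kernel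
theorem c225 : eqW R 6 3 [40] [0, 2, 1, 0, 1, 2, 1, 2, 0, 2, 0, 2, 1, 0, 1, 2, 0, 3, 4, 3, 3, 4, 3, 4, 4, 3, 3, 3, 4, 3, 4, 3, 3, 6, 5, 6, 6, 5, 5, 5, 6, 5, 6, 5, 6, 5, 7, 7, 8, 8, 7, 8, 8, 7, 7, 8, 7, 7, 10, 10] = true := by decide +kernel
theorem c226 : eqW R 9 3 [40] [0, 2, 1, 0, 1, 2, 1, 2, 0, 2, 0, 2, 1, 0, 1, 2, 0, 3, 4, 3, 3, 4, 3, 4, 4, 3, 3, 3, 4, 3, 4, 3, 3, 6, 5, 6, 6, 5, 5, 5, 6, 5, 6, 5, 6, 5, 7, 7, 8, 8, 7, 8, 8, 7, 7, 8, 7, 7, 10, 10] = true := by decide +kernel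
theorem c227 : eqW R 12 3 [40] [0, 2, 1, 0, 1, 2, 1, 2, 0, 2, 0, 2, 1, 0, 1, 2, 0, 3, 4, 3, 3, 4, 3, 4, 4, 3, 3, 3, 4, 3, 4, 3, 3, 6, 5, 6, 6, 5, 5, 5, 6, 5, 6, 5, 6, 5, 7, 7, 8, 8, 7, 8, 8, 7, 7, 8, 7, 7, 10, 10] = true := by decide +kernel
theorem c228 : eqW R 15 2 [40] [0, 2, 1, 0, 1, 2, 1, 2, 0, 2, 0, 2, 1, 0, 1, 2, 0, 3, 4, 3, 3, 4, 3, 4, 4, 3, 3, 3, 4, 3, 4, 3, 3, 6, 5, 6, 6, 5, 5, 5, 6, 5, 6, 5, 6, 5, 7, 7, 8, 8, 7, 8, 8, 7, 7, 8, 7, 7, 10, 10] = true := by decide +kernel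
theorem c229 : eqW R 0 3 [39] [0, 1, 2, 1, 2, 1, 2, 1, 0, 2, 0, 1, 0, 1, 2, 4, 4, 3, 3, 4, 3, 3, 4, 3, 3, 3, 3, 3, 3, 3, 4, 6, 6, 6, 5, 5, 6, 5, 6, 5, 5, 6, 5, 5, 7, 8, 7, 7, 7, 7, 7, 8, 7, 7, 7] = true := by decide +kernel
theorem c230 : eqW R 3 3 [39] [0, 1, 2, 1, 2, 1, 2, 1, 0, 2, 0, 1, 0, 1, 2, 4, 4, 3, 3, 4, 3, 3, 4, 3, 3, 3, 3, 3, 3, 3, 4, 6, 6, 6, 5, 5, 6, 5, 6, 5, 5, 6, 5, 5, 7, 8, 7, 7, 7, 7, 7, 8, 7, 7, 7] = true := by decide +kernel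
theorem c231 : eqW R 6 3 [39] [0, 1, 2, 1, 2, 1, 2, 1, 0, 2, 0, 1, 0, 1, 2, 4, 4, 3, 3, 4, 3, 3, 4, 3, 3, 3, 3, 3, 3, 3, 4, 6, 6, 6, 5, 5, 6, 5, 6, 5, 5, 6, 5, 5, 7, 8, 7, 7, 7, 7, 7, 8, 7, 7, 7] = true := by decide +kernel
theorem c232 : eqW R 9 3 [39] [0, 1, 2, 1, 2, 1, 2, 1, 0, 2, 0, 1, 0, 1, 2, 4, 4, 3, 3, 4, 3, 3, 4, 3, 3, 3, 3, 3, 3, 3, 4, 6, 6, 6, 5, 5, 6, 5, 6, 5, 5, 6, 5, 5, 7, 8, 7, 7, 7, 7, 7, 8, 7, 7, 7] = true := by decide +kernel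
theorem c233 : eqW R 12 3 [39] [0, 1, 2, 1, 2, 1, 2, 1, 0, 2, 0, 1, 0, 1, 2, 4, 4, 3, 3, 4, 3, 3, 4, 3, 3, 3, 3, 3, 3, 3, 4, 6, 6, 6, 5, 5, 6, 5, 6, 5, 5, 6, 5, 5, 7, 8, 7, 7, 7, 7, 7, 8, 7, 7, 7] = true := by decide +kernel
theorem c234 : eqW R 15 2 [39] [0, 1, 2, 1, 2, 1, 2, 1, 0, 2, 0, 1, 0, 1, 2, 4, 4, 3, 3, 4, 3, 3, 4, 3, 3, 3, 3, 3, 3, 3, 4, 6, 6, 6, 5, 5, 6, 5, 6, 5, 5, 6, 5, 5, 7, 8, 7, 7, 7, 7, 7, 8, 7, 7, 7] = true := by decide +kernel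
theorem c235 : eqW R 0 3 [38] [1, 2, 0, 1, 0, 2, 0, 2, 1, 0, 2, 0, 2, 1, 3, 3, 3, 4, 4, 3, 4, 3, 4, 3, 4, 3, 3, 4, 3, 3, 3, 3, 6, 5, 5, 5, 5, 5, 6, 6, 6, 5, 6, 5, 6, 5, 7, 8, 8, 8, 7, 8, 8, 7, 7, 7, 8, 8, 7, 8, 9, 10] = true := by decide +kernel
theorem c236 : eqW R 3 3 [38] [1, 2, 0, 1, 0, 2, 0, 2, 1, 0, 2, 0, 2, 1, 3, 3, 3, 4, 4, 3, 4, 3, 4, 3, 4, 3, 3, 4, 3, 3, 3, 3, 6, 5, 5, 5, 5, 5, 6, 6, 6, 5, 6, 5, 6, 5, 7, 8, 8, 8, 7, 8, 8, 7, 7, 7, 8, 8, 7, 8, 9, 10] = true := by decide +kernel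
theorem c237 : eqW R 6 3 [38] [1, 2, 0, 1, 0, 2, 0, 2, 1, 0, 2, 0, 2, 1, 3, 3, 3, 4, 4, 3, 4, 3, 4, 3, 4, 3, 3, 4, 3, 3, 3, 3, 6, 5, 5, 5, 5, 5, 6, 6, 6, 5, 6, 5, 6, 5, 7, 8, 8, 8, 7, 8, 8, 7, 7, 7, 8, 8, 7, 8, 9, 10] = true := by decide +kernel
theorem c238 : eqW R 9 3 [38] [1, 2, 0, 1, 0, 2, 0, 2, 1, 0, 2, 0, 2, 1, 3, 3, 3, 4, 4, 3, 4, 3, 4, 3, 4, 3, 3, 4, 3, 3, 3, 3, 6, 5, 5, 5, 5, 5, 6, 6, 6, 5, 6, 5, 6, 5, 7, 8, 8, 8, 7, 8, 8, 7, 7, 7, 8, 8, 7, 8, 9, 10] = true := by decide +kernel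
theorem c239 : eqW R 12 3 [38] [1, 2, 0, 1, 0, 2, 0, 2, 1, 0, 2, 0, 2, 1, 3, 3, 3, 4, 4, 3, 4, 3, 4, 3, 4, 3, 3, 4, 3, 3, 3, 3, 6, 5, 5, 5, 5, 5, 6, 6, 6, 5, 6, 5, 6, 5, 7, 8, 8, 8, 7, 8, 8, 7, 7, 7, 8, 8, 7, 8, 9, 10] = true := by decide +kernel
theorem c240 : eqW R 15 2 [38] [1, 2, 0, 1, 0, 2, 0, 2, 1, 0, 2, 0, 2, 1, 3, 3, 3, 4, 4, 3, 4, 3, 4, 3, 4, 3, 3, 4, 3, 3, 3, 3, 6, 5, 5, 5, 5, 5, 6, 6, 6, 5, 6, 5, 6, 5, 7, 8, 8, 8, 7, 8, 8, 7, 7, 7, 8, 8, 7, 8, 9, 10] = true := by decide +kernel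
theorem c241 : eqW R 0 3 [37] [2, 1, 2, 0, 2, 0, 2, 1, 0, 2, 1, 2, 0, 1, 0, 3, 4, 3, 4, 4, 3, 3, 4, 3, 4, 3, 3, 4, 3, 4, 3, 3, 6, 6, 6, 6, 5, 5, 6, 6, 5, 6, 5, 5, 6, 7, 8, 7, 8, 7, 7, 7, 8, 7, 9, 10] = true := by decide +kernel
theorem c242 : eqW R 3 3 [37] [2, 1, 2, 0, 2, 0, 2, 1, 0, 2, 1, 2, 0, 1, 0, 3, 4, 3, 4, 4, 3, 3, 4, 3, 4, 3, 3, 4, 3, 4, 3, 3, 6, 6, 6, 6, 5, 5, 6, 6, 5, 6, 5, 5, 6, 7, 8, 7, 8, 7, 7, 7, 8, 7, 9, 10] = true := by decide +kernel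
theorem c243 : eqW R 6 3 [37] [2, 1, 2, 0, 2, 0, 2, 1, 0, 2, 1, 2, 0, 1, 0, 3, 4, 3, 4, 4, 3, 3, 4, 3, 4, 3, 3, 4, 3, 4, 3, 3, 6, 6, 6, 6, 5, 5, 6, 6, 5, 6, 5, 5, 6, 7, 8, 7, 8, 7, 7, 7, 8, 7, 9, 10] = true := by decide +kernel
theorem c244 : eqW R 9 3 [37] [2, 1, 2, 0, 2, 0, 2, 1, 0, 2, 1, 2, 0, 1, 0, 3, 4, 3, 4, 4, 3, 3, 4, 3, 4, 3, 3, 4, 3, 4, 3, 3, 6, 6, 6, 6, 5, 5, 6, 6, 5, 6, 5, 5, 6, 7, 8, 7, 8, 7, 7, 7, 8, 7, 9, 10] = true := by decide +kernel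
theorem c245 : eqW R 12 3 [37] [2, 1, 2, 0, 2, 0, 2, 1, 0, 2, 1, 2, 0, 1, 0, 3, 4, 3, 4, 4, 3, 3, 4, 3, 4, 3, 3, 4, 3, 4, 3, 3, 6, 6, 6, 6, 5, 5, 6, 6, 5, 6, 5, 5, 6, 7, 8, 7, 8, 7, 7, 7, 8, 7, 9, 10] = true := by decide +kernel
theorem c246 : eqW R 15 2 [37] [2, 1, 2, 0, 2, 0, 2, 1, 0, 2, 1, 2, 0, 1, 0, 3, 4, 3, 4, 4, 3, 3, 4, 3, 4, 3, 3, 4, 3, 4, 3, 3, 6, 6, 6, 6, 5, 5, 6, 6, 5, 6, 5, 5, 6, 7, 8, 7, 8, 7, 7, 7, 8, 7, 9, 10] = true := by decide +kernel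
theorem c247 : eqW R 0 3 [36] [2, 0, 1, 2, 0, 1, 0, 2, 0, 1, 2, 1, 2, 1, 2, 1, 3, 4, 4, 3, 3, 3, 3, 4, 3, 4, 3, 5, 5, 5, 6, 5, 5, 6, 5, 6, 5, 5, 7, 7, 7, 8, 7, 8, 7, 7, 7, 8, 7, 7, 8, 9, 10] = true := by decide +kernel
theorem c248 : eqW R 3 3 [36] [2, 0, 1, 2, 0, 1, 0, 2, 0, 1, 2, 1, 2, 1, 2, 1, 3, 4, 4, 3, 3, 3, 3, 4, 3, 4, 3, 5, 5, 5, 6, 5, 5, 6, 5, 6, 5, 5, 7, 7, 7, 8, 7, 8, 7, 7, 7, 8, 7, 7, 8, 9, 10] = true := by decide +kernel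
theorem c249 : eqW R 6 3 [36] [2, 0, 1, 2, 0, 1, 0, 2, 0, 1, 2, 1, 2, 1, 2, 1, 3, 4, 4, 3, 3, 3, 3, 4, 3, 4, 3, 5, 5, 5, 6, 5, 5, 6, 5, 6, 5, 5, 7, 7, 7, 8, 7, 8, 7, 7, 7, 8, 7, 7, 8, 9, 10] = true := by decide +kernel
theorem c250 : eqW R 9 3 [36] [2, 0, 1, 2, 0, 1, 0, 2, 0, 1, 2, 1, 2, 1, 2, 1, 3, 4, 4, 3, 3, 3, 3, 4, 3, 4, 3, 5, 5, 5, 6, 5, 5, 6, 5, 6, 5, 5, 7, 7, 7, 8, 7, 8, 7, 7, 7, 8, 7, 7, 8, 9, 10] = true := by decide +kernel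
theorem c251 : eqW R 12 3 [36] [2, 0, 1, 2, 0, 1, 0, 2, 0, 1, 2, 1, 2, 1, 2, 1, 3, 4, 4, 3, 3, 3, 3, 4, 3, 4, 3, 5, 5, 5, 6, 5, 5, 6, 5, 6, 5, 5, 7, 7, 7, 8, 7, 8, 7, 7, 7, 8, 7, 7, 8, 9, 10] = true := by decide +kernel
theorem c252 : eqW R 15 2 [36] [2, 0, 1, 2, 0, 1, 0, 2, 0, 1, 2, 1, 2, 1, 2, 1, 3, 4, 4, 3, 3, 3, 3, 4, 3, 4, 3, 5, 5, 5, 6, 5, 5, 6, 5, 6, 5, 5, 7, 7, 7, 8, 7, 8, 7, 7, 7, 8, 7, 7, 8, 9, 10] = true := by decide +kernel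
theorem c253 : eqW R 0 3 [35] [0, 1, 2, 0, 2, 1, 0, 2, 1, 0, 1, 2, 0, 1, 0, 2, 3, 4, 3, 3, 4, 3, 3, 4, 3, 3, 4, 3, 3, 4, 4, 6, 6, 6, 5, 6, 5, 5, 6, 5, 5, 5, 5, 6, 5, 5, 8, 8, 7, 7, 8, 7, 7, 8, 7, 8, 8, 9] = true := by decide +kernel
theorem c254 : eqW R 3 3 [35] [0, 1, 2, 0, 2, 1, 0, 2, 1, 0, 1, 2, 0, 1, 0, 2, 3, 4, 3, 3, 4, 3, 3, 4, 3, 3, 4, 3, 3, 4, 4, 6, 6, 6, 5, 6, 5, 5, 6, 5, 5, 5, 5, 6, 5, 5, 8, 8, 7, 7, 8, 7, 7, 8, 7, 8, 8, 9] = true := by decide +kernel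
theorem c255 : eqW R 6 3 [35] [0, 1, 2, 0, 2, 1, 0, 2, 1, 0, 1, 2, 0, 1, 0, 2, 3, 4, 3, 3, 4, 3, 3, 4, 3, 3, 4, 3, 3, 4, 4, 6, 6, 6, 5, 6, 5, 5, 6, 5, 5, 5, 5, 6, 5, 5, 8, 8, 7, 7, 8, 7, 7, 8, 7, 8, 8, 9] = true := by decide +kernel
theorem c256 : eqW R 9 3 [35] [0, 1, 2, 0, 2, 1, 0, 2, 1, 0, 1, 2, 0, 1, 0, 2, 3, 4, 3, 3, 4, 3, 3, 4, 3, 3, 4, 3, 3, 4, 4, 6, 6, 6, 5, 6, 5, 5, 6, 5, 5, 5, 5, 6, 5, 5, 8, 8, 7, 7, 8, 7, 7, 8, 7, 8, 8, 9] = true := by decide +kernel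
theorem c257 : eqW R 12 3 [35] [0, 1, 2, 0, 2, 1, 0, 2, 1, 0, 1, 2, 0, 1, 0, 2, 3, 4, 3, 3, 4, 3, 3, 4, 3, 3, 4, 3, 3, 4, 4, 6, 6, 6, 5, 6, 5, 5, 6, 5, 5, 5, 5, 6, 5, 5, 8, 8, 7, 7, 8, 7, 7, 8, 7, 8, 8, 9] = true := by decide +kernel
theorem c258 : eqW R 15 2 [35] [0, 1, 2, 0, 2, 1, 0, 2, 1, 0, 1, 2, 0, 1, 0, 2, 3, 4, 3, 3, 4, 3, 3, 4, 3, 3, 4, 3, 3, 4, 4, 6, 6, 6, 5, 6, 5, 5, 6, 5, 5, 5, 5, 6, 5, 5, 8, 8, 7, 7, 8, 7, 7, 8, 7, 8, 8, 9] = true := by decide +kernel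
theorem c259 : eqW R 0 3 [34] [2, 1, 0, 1, 0, 2, 0, 2, 0, 2, 1, 2, 0, 1, 2, 4, 3, 4, 3, 3, 3, 3, 3, 3, 3, 4, 5, 5, 6, 5, 5, 5, 5, 5, 5, 5, 5, 6, 5, 5, 7, 7, 7, 8, 7, 7, 8, 8, 7, 10] = true := by decide +kernel
theorem c260 : eqW R 3 3 [34] [2, 1, 0, 1, 0, 2, 0, 2, 0, 2, 1, 2, 0, 1, 2, 4, 3, 4, 3, 3, 3, 3, 3, 3, 3, 4, 5, 5, 6, 5, 5, 5, 5, 5, 5, 5, 5, 6, 5, 5, 7, 7, 7, 8, 7, 7, 8, 8, 7, 10] = true := by decide +kernel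
theorem c261 : eqW R 6 3 [34] [2, 1, 0, 1, 0, 2, 0, 2, 0, 2, 1, 2, 0, 1, 2, 4, 3, 4, 3, 3, 3, 3, 3, 3, 3, 4, 5, 5, 6, 5, 5, 5, 5, 5, 5, 5, 5, 6, 5, 5, 7, 7, 7, 8, 7, 7, 8, 8, 7, 10] = true := by decide +kernel
theorem c262 : eqW R 9 3 [34] [2, 1, 0, 1, 0, 2, 0, 2, 0, 2, 1, 2, 0, 1, 2, 4, 3, 4, 3, 3, 3, 3, 3, 3, 3, 4, 5, 5, 6, 5, 5, 5, 5, 5, 5, 5, 5, 6, 5, 5, 7, 7, 7, 8, 7, 7, 8, 8, 7, 10] = true := by decide +kernel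
theorem c263 : eqW R 12 3 [34] [2, 1, 0, 1, 0, 2, 0, 2, 0, 2, 1, 2, 0, 1, 2, 4, 3, 4, 3, 3, 3, 3, 3, 3, 3, 4, 5, 5, 6, 5, 5, 5, 5, 5, 5, 5, 5, 6, 5, 5, 7, 7, 7, 8, 7, 7, 8, 8, 7, 10] = true := by decide +kernel
theorem c264 : eqW R 15 2 [34] [2, 1, 0, 1, 0, 2, 0, 2, 0, 2, 1, 2, 0, 1, 2, 4, 3, 4, 3, 3, 3, 3, 3, 3, 3, 4, 5, 5, 6, 5, 5, 5, 5, 5, 5, 5, 5, 6, 5, 5, 7, 7, 7, 8, 7, 7, 8, 8, 7, 10] = true := by decide +kernel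
theorem c265 : eqW R 0 3 [33] [32, 14, 14, 14, 32, 14] = true := by decide +kernel
theorem c266 : eqW R 3 3 [33] [32, 14, 14, 14, 32, 14] = true := by decide +kernel
theorem c267 : eqW R 6 3 [33] [32, 14, 14, 14, 32, 14] = true := by decide +kernel
theorem c268 : eqW R 9 3 [33] [32, 14, 14, 14, 32, 14] = true := by decide +kernel
theorem c269 : eqW R 12 3 [33] [32, 14, 14, 14, 32, 14] = true := by decide +kernel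
theorem c270 : eqW R 15 2 [33] [32, 14, 14, 14, 32, 14] = true := by decide +kernel
theorem c271 : eqW R 0 3 [32] [31, 16, 16, 16, 31, 16] = true := by decide +kernel
theorem c272 : eqW R 3 3 [32] [31, 16, 16, 16, 31, 16] = true := by decide +kernel
theorem c273 : eqW R 6 3 [32] [31, 16, 16, 16, 31, 16] = true := by decide +kernel
theorem c274 : eqW R 9 3 [32] [31, 16, 16, 16, 31, 16] = true := by decide +kernel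
theorem c275 : eqW R 12 3 [32] [31, 16, 16, 16, 31, 16] = true := by decide +kernel
theorem c276 : eqW R 15 2 [32] [31, 16, 16, 16, 31, 16] = true := by decide +kernel
theorem c277 : eqW R 0 3 [31] [29, 14, 14, 14, 29, 14] = true := by decide +kernel
theorem c278 : eqW R 3 3 [31] [29, 14, 14, 14, 29, 14] = true := by decide +kernel
theorem c279 : eqW R 6 3 [31] [29, 14, 14, 14, 29, 14] = true := by decide +kernel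
theorem c280 : eqW R 9 3 [31] [29, 14, 14, 14, 29, 14] = true := by decide +kernel
theorem c281 : eqW R 12 3 [31] [29, 14, 14, 14, 29, 14] = true := by decide +kernel
theorem c282 : eqW R 15 2 [31] [29, 14, 14, 14, 29, 14] = true := by decide +kernel
theorem c283 : eqW R 0 3 [30] [26, 14, 14, 14, 26, 14] = true := by decide +kernel
theorem c284 : eqW R 3 3 [30] [26, 14, 14, 14, 26, 14] = true := by decide +kernel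
theorem c285 : eqW R 6 3 [30] [26, 14, 14, 14, 26, 14] = true := by decide +kernel
theorem c286 : eqW R 9 3 [30] [26, 14, 14, 14, 26, 14] = true := by decide +kernel
theorem c287 : eqW R 12 3 [30] [26, 14, 14, 14, 26, 14] = true := by decide +kernel
theorem c288 : eqW R 15 2 [30] [26, 14, 14, 14, 26, 14] = true := by decide +kernel
theorem c289 : eqW R 0 3 [29] [26, 13, 13, 13, 26, 13] = true := by decide +kernel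
theorem c290 : eqW R 3 3 [29] [26, 13, 13, 13, 26, 13] = true := by decide +kernel
theorem c291 : eqW R 6 3 [29] [26, 13, 13, 13, 26, 13] = true := by decide +kernel
theorem c292 : eqW R 9 3 [29] [26, 13, 13, 13, 26, 13] = true := by decide +kernel
theorem c293 : eqW R 12 3 [29] [26, 13, 13, 13, 26, 13] = true := by decide +kernel
theorem c294 : eqW R 15 2 [29] [26, 13, 13, 13, 26, 13] = true := by decide +kernel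
theorem c295 : eqW R 0 3 [28] [24, 24, 24, 14, 14, 14, 24, 14] = true := by decide +kernel
theorem c296 : eqW R 3 3 [28] [24, 24, 24, 14, 14, 14, 24, 14] = true := by decide +kernel
theorem c297 : eqW R 6 3 [28] [24, 24, 24, 14, 14, 14, 24, 14] = true := by decide +kernel
theorem c298 : eqW R 9 3 [28] [24, 24, 24, 14, 14, 14, 24, 14] = true := by decide +kernel
theorem c299 : eqW R 12 3 [28] [24, 24, 24, 14, 14, 14, 24, 14] = true := by decide +kernel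
theorem c300 : eqW R 15 2 [28] [24, 24, 24, 14, 14, 14, 24, 14] = true := by decide +kernel
theorem c301 : eqW R 0 3 [27] [23, 14, 14, 14, 23, 14] = true := by decide +kernel
theorem c302 : eqW R 3 3 [27] [23, 14, 14, 14, 23, 14] = true := by decide +kernel
theorem c303 : eqW R 6 3 [27] [23, 14, 14, 14, 23, 14] = true := by decide +kernel
theorem c304 : eqW R 9 3 [27] [23, 14, 14, 14, 23, 14] = true := by decide +kernel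
theorem c305 : eqW R 12 3 [27] [23, 14, 14, 14, 23, 14] = true := by decide +kernel
theorem c306 : eqW R 15 2 [27] [23, 14, 14, 14, 23, 14] = true := by decide +kernel
theorem c307 : eqW R 0 3 [26] [22, 22, 22, 16, 16, 16, 22, 16] = true := by decide +kernel
theorem c308 : eqW R 3 3 [26] [22, 22, 22, 16, 16, 16, 22, 16] = true := by decide +kernel
theorem c309 : eqW R 6 3 [26] [22, 22, 22, 16, 16, 16, 22, 16] = true := by decide +kernel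
theorem c310 : eqW R 9 3 [26] [22, 22, 22, 16, 16, 16, 22, 16] = true := by decide +kernel
theorem c311 : eqW R 12 3 [26] [22, 22, 22, 16, 16, 16, 22, 16] = true := by decide +kernel
theorem c312 : eqW R 15 2 [26] [22, 22, 22, 16, 16, 16, 22, 16] = true := by decide +kernel
theorem c313 : eqW R 0 3 [25] [20, 20, 20, 14, 14, 14, 20, 14] = true := by decide +kernel
theorem c314 : eqW R 3 3 [25] [20, 20, 20, 14, 14, 14, 20, 14] = true := by decide +kernel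
theorem c315 : eqW R 6 3 [25] [20, 20, 20, 14, 14, 14, 20, 14] = true := by decide +kernel
theorem c316 : eqW R 9 3 [25] [20, 20, 20, 14, 14, 14, 20, 14] = true := by decide +kernel
theorem c317 : eqW R 12 3 [25] [20, 20, 20, 14, 14, 14, 20, 14] = true := by decide +kernel
theorem c318 : eqW R 15 2 [25] [20, 20, 20, 14, 14, 14, 20, 14] = true := by decide +kernel
theorem c319 : eqW R 0 3 [24] [19, 19, 19, 16, 16, 16, 19, 16] = true := by decide +kernel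
theorem c320 : eqW R 3 3 [24] [19, 19, 19, 16, 16, 16, 19, 16] = true := by decide +kernel
theorem c321 : eqW R 6 3 [24] [19, 19, 19, 16, 16, 16, 19, 16] = true := by decide +kernel
theorem c322 : eqW R 9 3 [24] [19, 19, 19, 16, 16, 16, 19, 16] = true := by decide +kernel
theorem c323 : eqW R 12 3 [24] [19, 19, 19, 16, 16, 16, 19, 16] = true := by decide +kernel
theorem c324 : eqW R 15 2 [24] [19, 19, 19, 16, 16, 16, 19, 16] = true := by decide +kernel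
theorem c325 : eqW R 0 3 [23] [18, 18, 18, 16, 16, 16, 18, 16] = true := by decide +kernel
theorem c326 : eqW R 3 3 [23] [18, 18, 18, 16, 16, 16, 18, 16] = true := by decide +kernel
theorem c327 : eqW R 6 3 [23] [18, 18, 18, 16, 16, 16, 18, 16] = true := by decide +kernel
theorem c328 : eqW R 9 3 [23] [18, 18, 18, 16, 16, 16, 18, 16] = true := by decide +kernel
theorem c329 : eqW R 12 3 [23] [18, 18, 18, 16, 16, 16, 18, 16] = true := by decide +kernel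
theorem c330 : eqW R 15 2 [23] [18, 18, 18, 16, 16, 16, 18, 16] = true := by decide +kernel
theorem c331 : eqW R 0 3 [22] [18, 18, 18, 13, 13, 13, 18, 13] = true := by decide +kernel
theorem c332 : eqW R 3 3 [22] [18, 18, 18, 13, 13, 13, 18, 13] = true := by decide +kernel
theorem c333 : eqW R 6 3 [22] [18, 18, 18, 13, 13, 13, 18, 13] = true := by decide +kernel
theorem c334 : eqW R 9 3 [22] [18, 18, 18, 13, 13, 13, 18, 13] = true := by decide +kernel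
theorem c335 : eqW R 12 3 [22] [18, 18, 18, 13, 13, 13, 18, 13] = true := by decide +kernel
theorem c336 : eqW R 15 2 [22] [18, 18, 18, 13, 13, 13, 18, 13] = true := by decide +kernel
theorem c337 : eqW R 0 3 [21] [16, 16, 16, 14, 14, 14, 16, 14] = true := by decide +kernel
theorem c338 : eqW R 3 3 [21] [16, 16, 16, 14, 14, 14, 16, 14] = true := by decide +kernel
theorem c339 : eqW R 6 3 [21] [16, 16, 16, 14, 14, 14, 16, 14] = true := by decide +kernel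
theorem c340 : eqW R 9 3 [21] [16, 16, 16, 14, 14, 14, 16, 14] = true := by decide +kernel
theorem c341 : eqW R 12 3 [21] [16, 16, 16, 14, 14, 14, 16, 14] = true := by decide +kernel
theorem c342 : eqW R 15 2 [21] [16, 16, 16, 14, 14, 14, 16, 14] = true := by decide +kernel
theorem c343 : eqW R 0 3 [20] [16, 16, 16, 13, 13, 13, 16, 13] = true := by decide +kernel
theorem c344 : eqW R 3 3 [20] [16, 16, 16, 13, 13, 13, 16, 13] = true := by decide +kernel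
theorem c345 : eqW R 6 3 [20] [16, 16, 16, 13, 13, 13, 16, 13] = true := by decide +kernel
theorem c346 : eqW R 9 3 [20] [16, 16, 16, 13, 13, 13, 16, 13] = true := by decide +kernel
theorem c347 : eqW R 12 3 [20] [16, 16, 16, 13, 13, 13, 16, 13] = true := by decide +kernel
theorem c348 : eqW R 15 2 [20] [16, 16, 16, 13, 13, 13, 16, 13] = true := by decide +kernel
theorem c349 : eqW R 0 3 [19] [15, 15, 15, 15, 15, 15, 15, 13, 13, 13, 15, 13] = true := by decide +kernel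
theorem c350 : eqW R 3 3 [19] [15, 15, 15, 15, 15, 15, 15, 13, 13, 13, 15, 13] = true := by decide +kernel
theorem c351 : eqW R 6 3 [19] [15, 15, 15, 15, 15, 15, 15, 13, 13, 13, 15, 13] = true := by decide +kernel
theorem c352 : eqW R 9 3 [19] [15, 15, 15, 15, 15, 15, 15, 13, 13, 13, 15, 13] = true := by decide +kernel
theorem c353 : eqW R 12 3 [19] [15, 15, 15, 15, 15, 15, 15, 13, 13, 13, 15, 13] = true := by decide +kernel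
theorem c354 : eqW R 15 2 [19] [15, 15, 15, 15, 15, 15, 15, 13, 13, 13, 15, 13] = true := by decide +kernel
theorem c355 : eqW R 0 3 [18] [14, 14, 14, 13, 13, 13, 14, 13] = true := by decide +kernel
theorem c356 : eqW R 3 3 [18] [14, 14, 14, 13, 13, 13, 14, 13] = true := by decide +kernel
theorem c357 : eqW R 6 3 [18] [14, 14, 14, 13, 13, 13, 14, 13] = true := by decide +kernel
theorem c358 : eqW R 9 3 [18] [14, 14, 14, 13, 13, 13, 14, 13] = true := by decide +kernel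
theorem c359 : eqW R 12 3 [18] [14, 14, 14, 13, 13, 13, 14, 13] = true := by decide +kernel
theorem c360 : eqW R 15 2 [18] [14, 14, 14, 13, 13, 13, 14, 13] = true := by decide +kernel
theorem c361 : eqW R 0 3 [17] [0, 2, 1, 0, 2, 0, 2, 0, 2, 0, 2, 1, 2, 1, 2, 0, 3, 3, 4, 3, 3, 4, 3, 3, 3, 4, 3, 4, 3, 6, 6, 5, 6, 6, 6, 5, 5, 6, 5, 6, 5, 5, 6, 7, 7, 8, 8, 7, 7, 8, 7, 7, 8, 7, 8, 7, 7] = true := by decide +kernel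
theorem c362 : eqW R 3 3 [17] [0, 2, 1, 0, 2, 0, 2, 0, 2, 0, 2, 1, 2, 1, 2, 0, 3, 3, 4, 3, 3, 4, 3, 3, 3, 4, 3, 4, 3, 6, 6, 5, 6, 6, 6, 5, 5, 6, 5, 6, 5, 5, 6, 7, 7, 8, 8, 7, 7, 8, 7, 7, 8, 7, 8, 7, 7] = true := by decide +kernel
theorem c363 : eqW R 6 3 [17] [0, 2, 1, 0, 2, 0, 2, 0, 2, 0, 2, 1, 2, 1, 2, 0, 3, 3, 4, 3, 3, 4, 3, 3, 3, 4, 3, 4, 3, 6, 6, 5, 6, 6, 6, 5, 5, 6, 5, 6, 5, 5, 6, 7, 7, 8, 8, 7, 7, 8, 7, 7, 8, 7, 8, 7, 7] = true := by decide +kernel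
theorem c364 : eqW R 9 3 [17] [0, 2, 1, 0, 2, 0, 2, 0, 2, 0, 2, 1, 2, 1, 2, 0, 3, 3, 4, 3, 3, 4, 3, 3, 3, 4, 3, 4, 3, 6, 6, 5, 6, 6, 6, 5, 5, 6, 5, 6, 5, 5, 6, 7, 7, 8, 8, 7, 7, 8, 7, 7, 8, 7, 8, 7, 7] = true := by decide +kernel
theorem c365 : eqW R 12 3 [17] [0, 2, 1, 0, 2, 0, 2, 0, 2, 0, 2, 1, 2, 1, 2, 0, 3, 3, 4, 3, 3, 4, 3, 3, 3, 4, 3, 4, 3, 6, 6, 5, 6, 6, 6, 5, 5, 6, 5, 6, 5, 5, 6, 7, 7, 8, 8, 7, 7, 8, 7, 7, 8, 7, 8, 7, 7] = true := by decide +kernel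
theorem c366 : eqW R 15 2 [17] [0, 2, 1, 0, 2, 0, 2, 0, 2, 0, 2, 1, 2, 1, 2, 0, 3, 3, 4, 3, 3, 4, 3, 3, 3, 4, 3, 4, 3, 6, 6, 5, 6, 6, 6, 5, 5, 6, 5, 6, 5, 5, 6, 7, 7, 8, 8, 7, 7, 8, 7, 7, 8, 7, 8, 7, 7] = true := by decide +kernel
theorem c367 : eqW R 0 3 [16] [0, 1, 0, 1, 2, 1, 0, 1, 0, 2, 0, 1, 2, 0, 1, 0, 4, 3, 3, 3, 4, 4, 3, 3, 4, 4, 3, 3, 3, 4, 3, 4, 5, 6, 6, 5, 6, 6, 6, 5, 5, 5, 6, 6, 5, 6, 8, 7, 7, 8, 7, 8, 7, 8, 9, 10] = true := by decide +kernel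
theorem c368 : eqW R 3 3 [16] [0, 1, 0, 1, 2, 1, 0, 1, 0, 2, 0, 1, 2, 0, 1, 0, 4, 3, 3, 3, 4, 4, 3, 3, 4, 4, 3, 3, 3, 4, 3, 4, 5, 6, 6, 5, 6, 6, 6, 5, 5, 5, 6, 6, 5, 6, 8, 7, 7, 8, 7, 8, 7, 8, 9, 10] = true := by decide +kernel
theorem c369 : eqW R 6 3 [16] [0, 1, 0, 1, 2, 1, 0, 1, 0, 2, 0, 1, 2, 0, 1, 0, 4, 3, 3, 3, 4, 4, 3, 3, 4, 4, 3, 3, 3, 4, 3, 4, 5, 6, 6, 5, 6, 6, 6, 5, 5, 5, 6, 6, 5, 6, 8, 7, 7, 8, 7, 8, 7, 8, 9, 10] = true := by decide +kernel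
theorem c370 : eqW R 9 3 [16] [0, 1, 0, 1, 2, 1, 0, 1, 0, 2, 0, 1, 2, 0, 1, 0, 4, 3, 3, 3, 4, 4, 3, 3, 4, 4, 3, 3, 3, 4, 3, 4, 5, 6, 6, 5, 6, 6, 6, 5, 5, 5, 6, 6, 5, 6, 8, 7, 7, 8, 7, 8, 7, 8, 9, 10] = true := by decide +kernel
theorem c371 : eqW R 12 3 [16] [0, 1, 0, 1, 2, 1, 0, 1, 0, 2, 0, 1, 2, 0, 1, 0, 4, 3, 3, 3, 4, 4, 3, 3, 4, 4, 3, 3, 3, 4, 3, 4, 5, 6, 6, 5, 6, 6, 6, 5, 5, 5, 6, 6, 5, 6, 8, 7, 7, 8, 7, 8, 7, 8, 9, 10] = true := by decide +kernel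
theorem c372 : eqW R 15 2 [16] [0, 1, 0, 1, 2, 1, 0, 1, 0, 2, 0, 1, 2, 0, 1, 0, 4, 3, 3, 3, 4, 4, 3, 3, 4, 4, 3, 3, 3, 4, 3, 4, 5, 6, 6, 5, 6, 6, 6, 5, 5, 5, 6, 6, 5, 6, 8, 7, 7, 8, 7, 8, 7, 8, 9, 10] = true := by decide +kernel
theorem c373 : eqW R 0 3 [15] [0, 2, 1, 2, 1, 2, 0, 1, 0, 2, 1, 2, 0, 1, 0, 2, 1, 4, 3, 4, 3, 3, 4, 3, 3, 3, 4, 4, 3, 4, 4, 3, 4, 3, 3, 6, 5, 5, 6, 6, 6, 6, 5, 5, 6, 5, 6, 6, 8, 8, 8, 10, 10] = true := by decide +kernel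
theorem c374 : eqW R 3 3 [15] [0, 2, 1, 2, 1, 2, 0, 1, 0, 2, 1, 2, 0, 1, 0, 2, 1, 4, 3, 4, 3, 3, 4, 3, 3, 3, 4, 4, 3, 4, 4, 3, 4, 3, 3, 6, 5, 5, 6, 6, 6, 6, 5, 5, 6, 5, 6, 6, 8, 8, 8, 10, 10] = true := by decide +kernel
theorem c375 : eqW R 6 3 [15] [0, 2, 1, 2, 1, 2, 0, 1, 0, 2, 1, 2, 0, 1, 0, 2, 1, 4, 3, 4, 3, 3, 4, 3, 3, 3, 4, 4, 3, 4, 4, 3, 4, 3, 3, 6, 5, 5, 6, 6, 6, 6, 5, 5, 6, 5, 6, 6, 8, 8, 8, 10, 10] = true := by decide +kernel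
theorem c376 : eqW R 9 3 [15] [0, 2, 1, 2, 1, 2, 0, 1, 0, 2, 1, 2, 0, 1, 0, 2, 1, 4, 3, 4, 3, 3, 4, 3, 3, 3, 4, 4, 3, 4, 4, 3, 4, 3, 3, 6, 5, 5, 6, 6, 6, 6, 5, 5, 6, 5, 6, 6, 8, 8, 8, 10, 10] = true := by decide +kernel
theorem c377 : eqW R 12 3 [15] [0, 2, 1, 2, 1, 2, 0, 1, 0, 2, 1, 2, 0, 1, 0, 2, 1, 4, 3, 4, 3, 3, 4, 3, 3, 3, 4, 4, 3, 4, 4, 3, 4, 3, 3, 6, 5, 5, 6, 6, 6, 6, 5, 5, 6, 5, 6, 6, 8, 8, 8, 10, 10] = true := by decide +kernel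
theorem c378 : eqW R 15 2 [15] [0, 2, 1, 2, 1, 2, 0, 1, 0, 2, 1, 2, 0, 1, 0, 2, 1, 4, 3, 4, 3, 3, 4, 3, 3, 3, 4, 4, 3, 4, 4, 3, 4, 3, 3, 6, 5, 5, 6, 6, 6, 6, 5, 5, 6, 5, 6, 6, 8, 8, 8, 10, 10] = true := by decide +kernel
theorem c379 : eqW R 0 3 [14] [0, 1, 2, 0, 1, 2, 0, 2, 1, 2, 1, 2, 0, 1, 0, 2, 3, 3, 4, 3, 3, 4, 4, 3, 4, 3, 3, 3, 3, 3, 3, 4, 4, 6, 6, 5, 6, 5, 6, 6, 6, 5, 6, 5, 6, 6, 8, 7, 8, 7, 7, 8, 8, 7, 7, 10] = true := by decide +kernel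
theorem c380 : eqW R 3 3 [14] [0, 1, 2, 0, 1, 2, 0, 2, 1, 2, 1, 2, 0, 1, 0, 2, 3, 3, 4, 3, 3, 4, 4, 3, 4, 3, 3, 3, 3, 3, 3, 4, 4, 6, 6, 5, 6, 5, 6, 6, 6, 5, 6, 5, 6, 6, 8, 7, 8, 7, 7, 8, 8, 7, 7, 10] = true := by decide +kernel
theorem c381 : eqW R 6 3 [14] [0, 1, 2, 0, 1, 2, 0, 2, 1, 2, 1, 2, 0, 1, 0, 2, 3, 3, 4, 3, 3, 4, 4, 3, 4, 3, 3, 3, 3, 3, 3, 4, 4, 6, 6, 5, 6, 5, 6, 6, 6, 5, 6, 5, 6, 6, 8, 7, 8, 7, 7, 8, 8, 7, 7, 10] = true := by decide +kernel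
theorem c382 : eqW R 9 3 [14] [0, 1, 2, 0, 1, 2, 0, 2, 1, 2, 1, 2, 0, 1, 0, 2, 3, 3, 4, 3, 3, 4, 4, 3, 4, 3, 3, 3, 3, 3, 3, 4, 4, 6, 6, 5, 6, 5, 6, 6, 6, 5, 6, 5, 6, 6, 8, 7, 8, 7, 7, 8, 8, 7, 7, 10] = true := by decide +kernel
theorem c383 : eqW R 12 3 [14] [0, 1, 2, 0, 1, 2, 0, 2, 1, 2, 1, 2, 0, 1, 0, 2, 3, 3, 4, 3, 3, 4, 4, 3, 4, 3, 3, 3, 3, 3, 3, 4, 4, 6, 6, 5, 6, 5, 6, 6, 6, 5, 6, 5, 6, 6, 8, 7, 8, 7, 7, 8, 8, 7, 7, 10] = true := by decide +kernel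
theorem c384 : eqW R 15 2 [14] [0, 1, 2, 0, 1, 2, 0, 2, 1, 2, 1, 2, 0, 1, 0, 2, 3, 3, 4, 3, 3, 4, 4, 3, 4, 3, 3, 3, 3, 3, 3, 4, 4, 6, 6, 5, 6, 5, 6, 6, 6, 5, 6, 5, 6, 6, 8, 7, 8, 7, 7, 8, 8, 7, 7, 10] = true := by decide +kernel
theorem c385 : eqW R 0 3 [13] [0, 2, 0, 2, 0, 1, 2, 0, 1, 2, 0, 2, 0, 1, 2, 4, 4, 3, 3, 4, 3, 3, 4, 4, 3, 4, 4, 3, 4, 4, 5, 5, 5, 6, 5, 6, 6, 6, 6, 6, 6, 5, 6, 8, 8, 8, 7, 8, 8, 7, 7, 7, 7, 8, 7, 7, 10, 10] = true := by decide +kernel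
theorem c386 : eqW R 3 3 [13] [0, 2, 0, 2, 0, 1, 2, 0, 1, 2, 0, 2, 0, 1, 2, 4, 4, 3, 3, 4, 3, 3, 4, 4, 3, 4, 4, 3, 4, 4, 5, 5, 5, 6, 5, 6, 6, 6, 6, 6, 6, 5, 6, 8, 8, 8, 7, 8, 8, 7, 7, 7, 7, 8, 7, 7, 10, 10] = true := by decide +kernel
theorem c387 : eqW R 6 3 [13] [0, 2, 0, 2, 0, 1, 2, 0, 1, 2, 0, 2, 0, 1, 2, 4, 4, 3, 3, 4, 3, 3, 4, 4, 3, 4, 4, 3, 4, 4, 5, 5, 5, 6, 5, 6, 6, 6, 6, 6, 6, 5, 6, 8, 8, 8, 7, 8, 8, 7, 7, 7, 7, 8, 7, 7, 10, 10] = true := by decide +kernel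
theorem c388 : eqW R 9 3 [13] [0, 2, 0, 2, 0, 1, 2, 0, 1, 2, 0, 2, 0, 1, 2, 4, 4, 3, 3, 4, 3, 3, 4, 4, 3, 4, 4, 3, 4, 4, 5, 5, 5, 6, 5, 6, 6, 6, 6, 6, 6, 5, 6, 8, 8, 8, 7, 8, 8, 7, 7, 7, 7, 8, 7, 7, 10, 10] = true := by decide +kernel
theorem c389 : eqW R 12 3 [13] [0, 2, 0, 2, 0, 1, 2, 0, 1, 2, 0, 2, 0, 1, 2, 4, 4, 3, 3, 4, 3, 3, 4, 4, 3, 4, 4, 3, 4, 4, 5, 5, 5, 6, 5, 6, 6, 6, 6, 6, 6, 5, 6, 8, 8, 8, 7, 8, 8, 7, 7, 7, 7, 8, 7, 7, 10, 10] = true := by decide +kernel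
theorem c390 : eqW R 15 2 [13] [0, 2, 0, 2, 0, 1, 2, 0, 1, 2, 0, 2, 0, 1, 2, 4, 4, 3, 3, 4, 3, 3, 4, 4, 3, 4, 4, 3, 4, 4, 5, 5, 5, 6, 5, 6, 6, 6, 6, 6, 6, 5, 6, 8, 8, 8, 7, 8, 8, 7, 7, 7, 7, 8, 7, 7, 10, 10] = true := by decide +kernel
end H0.QCo1
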