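import Cfsg.Agent.H0.QCo1.K0
import Cfsg.Agent.H0.QCo1.K1
import Cfsg.Agent.H0.QCo1.K2
set_option maxRecDepth 100000
set_option Elab.async false
set_option linter.unusedSectionVars false
namespace H0.QCo1
open H0 BN 
theorem defs_ok : DefsOK R.p defs 13 := (defsOK_cons (eq_of_bits R (eqb_step R (eqb_step R (eqb_step R (eqb_step R (eqb_step R (eqb_step R (eqb_zero R [13] [0, 2, 0, 2, 0, 1, 2, 0, 1, 2, 0, 2, 0, 1, 2, 4, 4, 3, 3, 4, 3, 3, 4, 4, 3, 4, 4, 3, 4, 4, 5, 5, 5, 6, 5, 6, 6, 6, 6, 6, 6, 5, 6, 8, 8, 8, 7, 8, 8, 7, 7, 7, 7, 8, 7, 7, 10, 10]) c385) c386) c387) c388) c389) c390)) (by decide) (defsOK_cons (eq_of_bits R (eqb_step R (eqb_step R (eqb_step R (eqb_step R (eqb_step R (eqb_step R (eqb_zero R [14] [0, 1, 2, 0, 1, 2, 0, 2, 1, 2, 1, 2, 0, 1, 0, 2, 3, 3, 4, 3, 3, 4, 4, 3, 4, 3, 3, 3, 3, 3, 3, 4, 4, 6, 6, 5, 6, 5, 6, 6, 6, 5, 6, 5, 6, 6, 8, 7, 8, 7, 7, 8, 8, 7, 7, 10]) c379) c380) c381) c382)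 c383) c384)) (by decide) (defsOK_cons (eq_of_bits R (eqb_step R (eqb_step R (eqb_step R (eqb_step R (eqb_step R (eqb_step R (eqb_zero R [15] [0, 2, 1, 2, 1, 2, 0, 1, 0, 2, 1, 2, 0, 1, 0, 2, 1, 4, 3, 4, 3, 3, 4, 3, 3, 3, 4, 4, 3, 4, 4, 3, 4, 3, 3, 6, 5, 5, 6, 6, 6, 6, 5, 5, 6, 5, 6, 6, 8, 8, 8, 10, 10]) c373) c374) c375) c376) c377) c378)) (by decide) (defsOK_cons (eq_of_bits R (eqb_step R (eqb_step R (eqb_step R (eqb_step R (eqb_step R (eqb_step R (eqb_zero R [16] [0, 1, 0, 1, 2, 1, 0, 1, 0, 2, 0, 1, 2, 0, 1, 0, 4, 3, 3, 3, 4, 4, 3, 3, 4, 4, 3, 3, 3, 4, 3, 4, 5, 6, 6, 5, 6, 6, 6, 5, 5, 5, 6, 6, 5, 6, 8, 7, 7, 8, 7, 8, 7, 8, 9, 10]) c367) c368) c369) c370) c371) c372)) (by decide) (defsOK_cons (eq_of_bits R (eqb_step R (eqb_step R (eqb_step R (eqb_step R (eqb_step R (eqb_step R (eqb_zero R [17] [0, 2, 1, 0, 2, 0, 2, 0, 2, 0, 2, 1, 2, 1, 2, 0, 3, 3, 4, 3, 3, 4, 3, 3, 3, 4, 3, 4, 3, 6, 6, 5, 6, 6,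 6, 5, 5, 6, 5, 6, 5, 5, 6, 7, 7, 8, 8, 7, 7, 8, 7, 7, 8, 7, 8, 7, 7]) c361) c362) c363) c364) c365) c366)) (by decide) (defsOK_cons (eq_of_bits R (eqb_step R (eqb_step R (eqb_step R (eqb_step R (eqb_step R (eqb_step R (eqb_zero R [18] [14, 14, 14, 13, 13, 13, 14, 13]) c355) c356) c357) c358) c359) c360)) (by decide) (defsOK_cons (eq_of_bits R (eqb_step R (eqb_step R (eqb_step R (eqb_step R (eqb_step R (eqb_step R (eqb_zero R [19] [15, 15, 15, 15, 15, 15, 15, 13, 13, 13, 15, 13]) c349) c350) c351) c352) c353) c354)) (by decide) (defsOK_cons (eq_of_bits R (eqb_step R (eqb_step R (eqb_step R (eqb_step R (eqb_step R (eqb_step R (eqb_zero R [20] [16, 16, 16, 13, 13, 13, 16, 13]) c343) c344) c345) c346) c347) c348)) (by decide) (defsOK_cons (eq_of_bits R (eqb_step R (eqb_step R (eqb_step R (eqb_step R (eqb_step R (eqb_step R (eqb_zero R [21] [16, 16, 16, 14, 14, 14, 16, 14]) c337) c338) c339) c340) c341)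 c342)) (by decide) (defsOK_cons (eq_of_bits R (eqb_step R (eqb_step R (eqb_step R (eqb_step R (eqb_step R (eqb_step R (eqb_zero R [22] [18, 18, 18, 13, 13, 13, 18, 13]) c331) c332) c333) c334) c335) c336)) (by decide) (defsOK_cons (eq_of_bits R (eqb_step R (eqb_step R (eqb_step R (eqb_step R (eqb_step R (eqb_step R (eqb_zero R [23] [18, 18, 18, 16, 16, 16, 18, 16]) c325) c326) c327) c328) c329) c330)) (by decide) (defsOK_cons (eq_of_bits R (eqb_step R (eqb_step R (eqb_step R (eqb_step R (eqb_step R (eqb_step R (eqb_zero R [24] [19, 19, 19, 16, 16, 16, 19, 16]) c319) c320) c321) c322) c323) c324)) (by decide) (defsOK_cons (eq_of_bits R (eqb_step R (eqb_step R (eqb_step R (eqb_step R (eqb_step R (eqb_step R (eqb_zero R [25] [20, 20, 20, 14, 14, 14, 20, 14]) c313) c314) c315) c316) c317) c318)) (by decide) (defsOK_cons (eq_of_bits R (eqb_step R (eqb_step R (eqb_step R (eqb_step R (eqb_step R (eqb_step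 R (eqb_zero R [26] [22, 22, 22, 16, 16, 16, 22, 16]) c307) c308) c309) c310) c311) c312)) (by decide) (defsOK_cons (eq_of_bits R (eqb_step R (eqb_step R (eqb_step R (eqb_step R (eqb_step R (eqb_step R (eqb_zero R [27] [23, 14, 14, 14, 23, 14]) c301) c302) c303) c304) c305) c306)) (by decide) (defsOK_cons (eq_of_bits R (eqb_step R (eqb_step R (eqb_step R (eqb_step R (eqb_step R (eqb_step R (eqb_zero R [28] [24, 24, 24, 14, 14, 14, 24, 14]) c295) c296) c297) c298) c299) c300)) (by decide) (defsOK_cons (eq_of_bits R (eqb_step R (eqb_step R (eqb_step R (eqb_step R (eqb_step R (eqb_step R (eqb_zero R [29] [26, 13, 13, 13, 26, 13]) c289) c290) c291) c292) c293) c294)) (by decide) (defsOK_cons (eq_of_bits R (eqb_step R (eqb_step R (eqb_step R (eqb_step R (eqb_step R (eqb_step R (eqb_zero R [30] [26, 14, 14, 14, 26, 14]) c283) c284) c285) c286) c287) c288)) (by decide) (defsOK_cons (eq_of_bits R (eqb_step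 R (eqb_step R (eqb_step R (eqb_step R (eqb_step R (eqb_step R (eqb_zero R [31] [29, 14, 14, 14, 29, 14]) c277) c278) c279) c280) c281) c282)) (by decide) (defsOK_cons (eq_of_bits R (eqb_step R (eqb_step R (eqb_step R (eqb_step R (eqb_step R (eqb_step R (eqb_zero R [32] [31, 16, 16, 16, 31, 16]) c271) c272) c273) c274) c275) c276)) (by decide) (defsOK_cons (eq_of_bits R (eqb_step R (eqb_step R (eqb_step R (eqb_step R (eqb_step R (eqb_step R (eqb_zero R [33] [32, 14, 14, 14, 32, 14]) c265) c266) c267) c268) c269) c270)) (by decide) (defsOK_cons (eq_of_bits R (eqb_step R (eqb_step R (eqb_step R (eqb_step R (eqb_step R (eqb_step R (eqb_zero R [34] [2, 1, 0, 1, 0, 2, 0, 2, 0, 2, 1, 2, 0, 1, 2, 4, 3, 4, 3, 3, 3, 3, 3, 3, 3, 4, 5, 5, 6, 5, 5, 5, 5, 5, 5, 5, 5, 6, 5, 5, 7, 7, 7, 8, 7, 7, 8, 8, 7, 10]) c259) c260) c261) c262) c263) c264)) (by decide) (defsOK_cons (eq_of_bits R (eqb_step R (eqb_step R (eqb_step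 R (eqb_step R (eqb_step R (eqb_step R (eqb_zero R [35] [0, 1, 2, 0, 2, 1, 0, 2, 1, 0, 1, 2, 0, 1, 0, 2, 3, 4, 3, 3, 4, 3, 3, 4, 3, 3, 4, 3, 3, 4, 4, 6, 6, 6, 5, 6, 5, 5, 6, 5, 5, 5, 5, 6, 5, 5, 8, 8, 7, 7, 8, 7, 7, 8, 7, 8, 8, 9]) c253) c254) c255) c256) c257) c258)) (by decide) (defsOK_cons (eq_of_bits R (eqb_step R (eqb_step R (eqb_step R (eqb_step R (eqb_step R (eqb_step R (eqb_zero R [36] [2, 0, 1, 2, 0, 1, 0, 2, 0, 1, 2, 1, 2, 1, 2, 1, 3, 4, 4, 3, 3, 3, 3, 4, 3, 4, 3, 5, 5, 5, 6, 5, 5, 6, 5, 6, 5, 5, 7, 7, 7, 8, 7, 8, 7, 7, 7, 8, 7, 7, 8, 9, 10]) c247) c248) c249) c250) c251) c252)) (by decide) (defsOK_cons (eq_of_bits R (eqb_step R (eqb_step R (eqb_step R (eqb_step R (eqb_step R (eqb_step R (eqb_zero R [37] [2, 1, 2, 0, 2, 0, 2, 1, 0, 2, 1, 2, 0, 1, 0, 3, 4, 3, 4, 4, 3, 3, 4, 3, 4, 3, 3, 4, 3, 4, 3, 3, 6, 6, 6, 6, 5, 5, 6, 6, 5, 6, 5, 5, 6, 7, 8, 7, 8, 7, 7, 7, 8, 7, 9, 10]) c241) c242) c243)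 c244) c245) c246)) (by decide) (defsOK_cons (eq_of_bits R (eqb_step R (eqb_step R (eqb_step R (eqb_step R (eqb_step R (eqb_step R (eqb_zero R [38] [1, 2, 0, 1, 0, 2, 0, 2, 1, 0, 2, 0, 2, 1, 3, 3, 3, 4, 4, 3, 4, 3, 4, 3, 4, 3, 3, 4, 3, 3, 3, 3, 6, 5, 5, 5, 5, 5, 6, 6, 6, 5, 6, 5, 6, 5, 7, 8, 8, 8, 7, 8, 8, 7, 7, 7, 8, 8, 7, 8, 9, 10]) c235) c236) c237) c238) c239) c240)) (by decide) (defsOK_cons (eq_of_bits R (eqb_step R (eqb_step R (eqb_step R (eqb_step R (eqb_step R (eqb_step R (eqb_zero R [39] [0, 1, 2, 1, 2, 1, 2, 1, 0, 2, 0, 1, 0, 1, 2, 4, 4, 3, 3, 4, 3, 3, 4, 3, 3, 3, 3, 3, 3, 3, 4, 6, 6, 6, 5, 5, 6, 5, 6, 5, 5, 6, 5, 5, 7, 8, 7, 7, 7, 7, 7, 8, 7, 7, 7]) c229) c230) c231) c232) c233) c234)) (by decide) (defsOK_cons (eq_of_bits R (eqb_step R (eqb_step R (eqb_step R (eqb_step R (eqb_step R (eqb_step R (eqb_zero R [40] [0, 2, 1, 0, 1, 2, 1, 2, 0, 2, 0, 2, 1, 0, 1, 2, 0, 3, 4, 3, 3, 4, 3, 4, 4,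 3, 3, 3, 4, 3, 4, 3, 3, 6, 5, 6, 6, 5, 5, 5, 6, 5, 6, 5, 6, 5, 7, 7, 8, 8, 7, 8, 8, 7, 7, 8, 7, 7, 10, 10]) c223) c224) c225) c226) c227) c228)) (by decide) (defsOK_cons (eq_of_bits R (eqb_step R (eqb_step R (eqb_step R (eqb_step R (eqb_step R (eqb_step R (eqb_zero R [41] [2, 1, 2, 0, 1, 0, 2, 1, 2, 1, 0, 1, 3, 3, 4, 4, 3, 4, 4, 3, 3, 3, 3, 4, 4, 3, 4, 4, 3, 3, 3, 6, 5, 5, 6, 5, 5, 5, 6, 6, 5, 6, 5, 7, 7, 8, 8, 8, 8, 7, 7, 8, 8, 8, 9]) c217) c218) c219) c220) c221) c222)) (by decide) (defsOK_cons (eq_of_bits R (eqb_step R (eqb_step R (eqb_step R (eqb_step R (eqb_step R (eqb_step R (eqb_zero R [42] [40, 40, 40, 40, 40, 40, 40, 40, 39, 39, 40, 39]) c211) c212) c213) c214) c215) c216)) (by decide) (defsOK_cons (eq_of_bits R (eqb_step R (eqb_step R (eqb_step R (eqb_step R (eqb_step R (eqb_step R (eqb_zero R [43] [41, 41, 41, 41, 41, 41, 41, 41, 39, 39, 41, 39]) c205) c206) c207) c208) c209) c210)) (by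 decide) (defsOK_cons (eq_of_bits R (eqb_step R (eqb_step R (eqb_step R (eqb_step R (eqb_step R (eqb_step R (eqb_zero R [44] [42, 42, 39, 39, 42, 39]) c199) c200) c201) c202) c203) c204)) (by decide) (defsOK_cons (eq_of_bits R (eqb_step R (eqb_step R (eqb_step R (eqb_step R (eqb_step R (eqb_step R (eqb_zero R [45] [42, 42, 40, 40, 40, 40, 40, 40, 40, 40, 42, 40]) c193) c194) c195) c196) c197) c198)) (by decide) (defsOK_cons (eq_of_bits R (eqb_step R (eqb_step R (eqb_step R (eqb_step R (eqb_step R (eqb_step R (eqb_zero R [46] [44, 44, 40, 40, 40, 40, 40, 40, 40, 40, 44, 40]) c187) c188) c189) c190) c191) c192)) (by decide) (defsOK_cons (eq_of_bits R (eqb_step R (eqb_step R (eqb_step R (eqb_step R (eqb_step R (eqb_step R (eqb_zero R [47] [46, 46, 39, 39, 46, 39]) c181) c182) c183) c184) c185) c186)) (by decide) (defsOK_cons (eq_of_bits R (eqb_step R (eqb_step R (eqb_step R (eqb_step R (eqb_step R (eqb_step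 R (eqb_zero R [48] [0, 1, 2, 1, 2, 0, 2, 1, 2, 0, 2, 0, 4, 3, 3, 3, 3, 4, 3, 4, 4, 3, 3, 4, 4, 3, 4, 3, 4, 5, 6, 5, 6, 6, 6, 5, 6, 5, 6, 5, 5, 7, 8, 8, 7, 8, 7, 8, 7, 7, 7, 8, 7, 10, 10]) c175) c176) c177) c178) c179) c180)) (by decide) (defsOK_cons (eq_of_bits R (eqb_step R (eqb_step R (eqb_step R (eqb_step R (eqb_step R (eqb_step R (eqb_zero R [49] [0, 2, 0, 1, 2, 0, 1, 2, 0, 2, 1, 2, 1, 2, 0, 2, 1, 3, 4, 3, 4, 4, 3, 3, 3, 4, 3, 3, 3, 4, 3, 3, 4, 6, 5, 5, 5, 6, 6, 5, 6, 5, 8, 8, 7, 8, 7, 7, 7, 7, 7, 8, 10, 10]) c169) c170) c171) c172) c173) c174)) (by decide) (defsOK_cons (eq_of_bits R (eqb_step R (eqb_step R (eqb_step R (eqb_step R (eqb_step R (eqb_step R (eqb_zero R [50] [0, 2, 1, 0, 1, 0, 2, 0, 2, 1, 2, 0, 1, 0, 1, 3, 4, 3, 3, 4, 3, 3, 4, 3, 3, 3, 3, 3, 3, 3, 4, 4, 3, 3, 5, 6, 5, 6, 6, 5, 5, 6, 5, 5, 6, 7, 8, 8, 8, 7, 7, 7, 8, 8, 7, 9, 10]) c163) c164) c165) c166) c167) c168)) (by decide) (defsOK_cons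 (eq_of_bits R (eqb_step R (eqb_step R (eqb_step R (eqb_step R (eqb_step R (eqb_step R (eqb_zero R [51] [1, 2, 0, 2, 1, 0, 2, 1, 2, 0, 1, 2, 1, 3, 3, 3, 3, 4, 3, 3, 4, 4, 3, 3, 3, 3, 3, 3, 3, 3, 4, 6, 5, 6, 6, 5, 5, 5, 6, 6, 6, 5, 5, 5, 6, 7, 7, 8, 8, 8, 7, 8, 7, 10]) c157) c158) c159) c160) c161) c162)) (by decide) (defsOK_cons (eq_of_bits R (eqb_step R (eqb_step R (eqb_step R (eqb_step R (eqb_step R (eqb_step R (eqb_zero R [52] [51, 51, 51, 51, 50, 50, 50, 50, 51, 50]) c151) c152) c153) c154) c155) c156)) (by decide) (defsOK_cons (eq_of_bits R (eqb_step R (eqb_step R (eqb_step R (eqb_step R (eqb_step R (eqb_step R (eqb_zero R [53] [52, 52, 52, 52, 50, 50, 50, 50, 52, 50]) c145) c146) c147) c148) c149) c150)) (by decide) (defsOK_cons (eq_of_bits R (eqb_step R (eqb_step R (eqb_step R (eqb_step R (eqb_step R (eqb_step R (eqb_zero R [54] [2, 1, 2, 1, 2, 1, 2, 1, 2, 1, 2, 0, 2, 1, 0, 1, 0, 3, 3, 4,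 3, 3, 4, 4, 3, 4, 3, 3, 3, 4, 4, 6, 6, 5, 5, 5, 5, 5, 5, 5, 6, 6, 6, 6, 6, 5, 7, 8, 8, 7, 7, 7, 7, 7, 7, 7, 7, 7, 7, 9, 10]) c139) c140) c141) c142) c143) c144)) (by decide) (defsOK_cons (eq_of_bits R (eqb_step R (eqb_step R (eqb_step R (eqb_step R (eqb_step R (eqb_step R (eqb_zero R [55] [0, 2, 1, 0, 1, 2, 0, 2, 0, 1, 0, 1, 2, 1, 2, 4, 3, 4, 4, 3, 4, 3, 4, 4, 3, 3, 3, 3, 4, 4, 3, 4, 3, 5, 5, 6, 6, 5, 5, 6, 6, 6, 5, 6, 5, 6, 6, 6, 7, 8, 8, 8, 7, 7, 7, 7, 10, 10]) c133) c134) c135) c136) c137) c138)) (by decide) (defsOK_cons (eq_of_bits R (eqb_step R (eqb_step R (eqb_step R (eqb_step R (eqb_step R (eqb_step R (eqb_zero R [56] [1, 2, 1, 2, 1, 2, 0, 1, 0, 1, 2, 1, 0, 2, 1, 0, 1, 3, 4, 3, 3, 4, 4, 3, 3, 3, 3, 3, 4, 4, 3, 3, 4, 3, 3, 6, 5, 5, 6, 5, 6, 6, 5, 5, 6, 5, 5, 6, 5, 8, 8, 8, 7, 7, 7, 8, 7, 8, 7, 7, 10, 10]) c127) c128) c129) c130) c131) c132)) (by decide) (defsOK_cons (eq_of_bits R (eqb_step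 R (eqb_step R (eqb_step R (eqb_step R (eqb_step R (eqb_step R (eqb_zero R [57] [0, 1, 0, 2, 1, 2, 0, 1, 0, 2, 1, 0, 2, 1, 0, 4, 4, 3, 4, 3, 3, 4, 4, 3, 4, 3, 3, 4, 3, 3, 3, 5, 5, 6, 6, 6, 5, 6, 5, 6, 6, 6, 5, 5, 8, 7, 7, 8, 7, 8, 8, 7, 7, 8, 7]) c121) c122) c123) c124) c125) c126)) (by decide) (defsOK_nil _ _))))))))))))))))))))))))))))))))))))))))))))))
universe u
variable {G : Type u} [Group G] [Finite G] (m0 : Model G) (h0 : m0.R = H6M.MCo1.R)
noncomputable def m : Model G := m0.ext (lg := nat_lit 17) (N := nat_lit 131072) (l := H6M.MCo1.nl) h0 nl nl_ok 13 rfl defs defs_ok (by decide +kernel)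
theorem mR : (m m0 h0).R = R := rfl
variable (hb : m0.pst [276, 27506, 4601, 98279, 0] = ⊥) (hc : Nat.card G = 4157776806543360000)
include h0 hb hc
theorem base : (m m0 h0).pst [276, 27506, 4601, 98279, 0] = ⊥ := hb
omit hb hc in
theorem ch2_ok : (m m0 h0).ChainOK ch2 [] := ((m m0 h0).chain_cons [0, 1, 2, 3, 4, 5, 6, 7, 8, 12, 13, 10, 15, 14, 9, 11, 0] (Model.via _ (mR m0 h0) (fun R => Model.fixP R [] [[13], [14], [15], [16], [17], [18], [19], [20], [21], [22], [25], [28], [29], [31], [32], [33]]) c4) (Model.via _ (mR m0 h0) (fun R => Model.growP R [[13], [14], [15], [16], [17], [18], [19], [20], [21], [22], [25], [28], [29], [31], [32], [33]] [0, 1, 2, 3, 4, 5, 6, 7, 8, 12, 13, 10, 15, 14, 9, 11, 0] 0 32768) c5) ((m m0 h0).chain_cons [0, 1, 2, 3, 4] (Model.via _ (mR m0 h0) (fun R => Model.fixP R [0] [[13, 16, 17, 19, 28, 32, 33], [14, 16, 19, 21, 22, 24, 25, 27], [15, 16, 17, 24, 25, 26, 30],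 [20, 24, 26, 27, 28, 30, 32], [23, 31]]) c2) (Model.via _ (mR m0 h0) (fun R => Model.growP R [[13, 16, 17, 19, 28, 32, 33], [14, 16, 19, 21, 22, 24, 25, 27], [15, 16, 17, 24, 25, 26, 30], [20, 24, 26, 27, 28, 30, 32], [23, 31]] [0, 1, 2, 3, 4] 1 32) c3) ((m m0 h0).chain_cons [0] (Model.via _ (mR m0 h0) (fun R => Model.fixP R [1, 0] [[18, 23, 25, 26, 29, 32, 33]]) c0) (Model.via _ (mR m0 h0) (fun R => Model.growP R [[18, 23, 25, 26, 29, 32, 33]] [0] 2 2) c1) ((m m0 h0).chain_nil _))))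
theorem pb2 : PBound G (2 ^ (1 + 1)) :=
  (m m0 h0).pbound C2 13 (k := 1982582476875) (K := 3) (e := 2) hc (lt_step_all (a := 330) (k := 1) (lt_step_all (a := 325) (k := 5) (lt_step_all (a := 321) (k := 4) (lt_step_all (a := 318) (k := 3) (lt_step_all (a := 315) (k := 3) (lt_step_all (a := 313) (k := 2) (lt_step_all (a := 311) (k := 2) (lt_step_all (a := 306) (k := 5) (lt_step_all (a := 302) (k := 4) (lt_step_all (a := 299) (k := 3) (lt_step_all (a := 296) (k := 3) (lt_step_all (a := 293) (k := 3) (lt_step_all (a := 290) (k := 3) (lt_step_all (a := 285) (k := 5) (lt_step_all (a := 281) (k := 4) (lt_step_all (a := 278) (k := 3) (lt_step_all (a := 275) (k := 3) (lt_step_all (a := 273) (k := 2) (lt_step_all (a := 271) (k := 2) (lt_step_all (a := 264) (k := 7) (lt_step_all (a := 261) (k := 3) (lt_step_all (a := 258) (k := 3) (lt_step_all (a := 255) (k := 3) (lt_step_all (a := 253) (k := 2) (lt_step_all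 (a := 251) (k := 2) (lt_step_all (a := 247) (k := 4) (lt_step_all (a := 243) (k := 4) (lt_step_all (a := 240) (k := 3) (lt_step_all (a := 238) (k := 2) (lt_step_all (a := 236) (k := 2) (lt_step_all (a := 234) (k := 2) (lt_step_all (a := 232) (k := 2) (lt_step_all (a := 226) (k := 6) (lt_step_all (a := 218) (k := 8) (lt_step_all (a := 210) (k := 8) (lt_step_all (a := 202) (k := 8) (lt_step_all (a := 194) (k := 8) (lt_step_all (a := 186) (k := 8) (lt_step_all (a := 178) (k := 8) (lt_step_all (a := 171) (k := 7) (lt_step_all (a := 163) (k := 8) (lt_step_all (a := 157) (k := 6) (lt_step_all (a := 149) (k := 8) (lt_step_all (a := 142) (k := 7) (lt_step_all (a := 136) (k := 6) (lt_step_all (a := 129) (k := 7) (lt_step_all (a := 123) (k := 6) (lt_step_all (a := 117) (k := 6) (lt_step_all (a := 111) (k := 6) (lt_step_all (a := 106) (k := 5) (lt_step_all (a := 99) (k := 7) (lt_step_all (a := 94) (k := 5)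 (lt_step_all (a := 87) (k := 7) (lt_step_all (a := 82) (k := 5) (lt_step_all (a := 78) (k := 4) (lt_step_all (a := 71) (k := 7) (lt_step_all (a := 66) (k := 5) (lt_step_all (a := 60) (k := 6) (lt_step_all (a := 56) (k := 4) (lt_step_all (a := 51) (k := 5) (lt_step_all (a := 45) (k := 6) (lt_step_all (a := 40) (k := 5) (lt_step_all (a := 37) (k := 3) (lt_step_all (a := 33) (k := 4) (lt_step_all (a := 30) (k := 3) (lt_step_all (a := 26) (k := 4) (lt_step_all (a := 22) (k := 4) (lt_step_all (a := 18) (k := 4) (lt_step_all (a := 14) (k := 4) (lt_step_all (a := 11) (k := 3) (lt_step_all (a := 8) (k := 3) (lt_step_all (a := 4) (k := 4) (lt_step_all (a := 0) (k := 4) (lt_zero_all _) ((m m0 h0).rules_of (base m0 h0 hb hc) (Model.via _ (mR m0 h0) (fun R => rulesB R [276, 27506, 4601, 98279, 0] (fun i => sh 13 (C2.L i)) (fun i => sh 13 (C2.R i)) 0 4) c6))) ((m m0 h0).rules_of (base m0 h0 hb hc) (Model.via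 _ (mR m0 h0) (fun R => rulesB R [276, 27506, 4601, 98279, 0] (fun i => sh 13 (C2.L i)) (fun i => sh 13 (C2.R i)) 4 4) c7))) ((m m0 h0).rules_of (base m0 h0 hb hc) (Model.via _ (mR m0 h0) (fun R => rulesB R [276, 27506, 4601, 98279, 0] (fun i => sh 13 (C2.L i)) (fun i => sh 13 (C2.R i)) 8 3) c8))) ((m m0 h0).rules_of (base m0 h0 hb hc) (Model.via _ (mR m0 h0) (fun R => rulesB R [276, 27506, 4601, 98279, 0] (fun i => sh 13 (C2.L i)) (fun i => sh 13 (C2.R i)) 11 3) c9))) ((m m0 h0).rules_of (base m0 h0 hb hc) (Model.via _ (mR m0 h0) (fun R => rulesB R [276, 27506, 4601, 98279, 0] (fun i => sh 13 (C2.L i)) (fun i => sh 13 (C2.R i)) 14 4) c10))) ((m m0 h0).rules_of (base m0 h0 hb hc) (Model.via _ (mR m0 h0) (fun R => rulesB R [276, 27506, 4601, 98279, 0] (fun i => sh 13 (C2.L i)) (fun i => sh 13 (C2.R i)) 18 4) c11))) ((m m0 h0).rules_of (base m0 h0 hb hc) (Model.via _ (mR m0 h0) (fun R => rulesB R [276,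 27506, 4601, 98279, 0] (fun i => sh 13 (C2.L i)) (fun i => sh 13 (C2.R i)) 22 4) c12))) ((m m0 h0).rules_of (base m0 h0 hb hc) (Model.via _ (mR m0 h0) (fun R => rulesB R [276, 27506, 4601, 98279, 0] (fun i => sh 13 (C2.L i)) (fun i => sh 13 (C2.R i)) 26 4) c13))) ((m m0 h0).rules_of (base m0 h0 hb hc) (Model.via _ (mR m0 h0) (fun R => rulesB R [276, 27506, 4601, 98279, 0] (fun i => sh 13 (C2.L i)) (fun i => sh 13 (C2.R i)) 30 3) c14))) ((m m0 h0).rules_of (base m0 h0 hb hc) (Model.via _ (mR m0 h0) (fun R => rulesB R [276, 27506, 4601, 98279, 0] (fun i => sh 13 (C2.L i)) (fun i => sh 13 (C2.R i)) 33 4) c15))) ((m m0 h0).rules_of (base m0 h0 hb hc) (Model.via _ (mR m0 h0) (fun R => rulesB R [276, 27506, 4601, 98279, 0] (fun i => sh 13 (C2.L i)) (fun i => sh 13 (C2.R i)) 37 3) c16))) ((m m0 h0).rules_of (base m0 h0 hb hc) (Model.via _ (mR m0 h0) (fun R => rulesB R [276, 27506, 4601, 98279, 0] (fun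 i => sh 13 (C2.L i)) (fun i => sh 13 (C2.R i)) 40 5) c17))) ((m m0 h0).rules_of (base m0 h0 hb hc) (Model.via _ (mR m0 h0) (fun R => rulesB R [276, 27506, 4601, 98279, 0] (fun i => sh 13 (C2.L i)) (fun i => sh 13 (C2.R i)) 45 6) c18))) ((m m0 h0).rules_of (base m0 h0 hb hc) (Model.via _ (mR m0 h0) (fun R => rulesB R [276, 27506, 4601, 98279, 0] (fun i => sh 13 (C2.L i)) (fun i => sh 13 (C2.R i)) 51 5) c19))) ((m m0 h0).rules_of (base m0 h0 hb hc) (Model.via _ (mR m0 h0) (fun R => rulesB R [276, 27506, 4601, 98279, 0] (fun i => sh 13 (C2.L i)) (fun i => sh 13 (C2.R i)) 56 4) c20))) ((m m0 h0).rules_of (base m0 h0 hb hc) (Model.via _ (mR m0 h0) (fun R => rulesB R [276, 27506, 4601, 98279, 0] (fun i => sh 13 (C2.L i)) (fun i => sh 13 (C2.R i)) 60 6) c21))) ((m m0 h0).rules_of (base m0 h0 hb hc) (Model.via _ (mR m0 h0) (fun R => rulesB R [276, 27506, 4601, 98279, 0] (fun i => sh 13 (C2.L i)) (fun i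 => sh 13 (C2.R i)) 66 5) c22))) ((m m0 h0).rules_of (base m0 h0 hb hc) (Model.via _ (mR m0 h0) (fun R => rulesB R [276, 27506, 4601, 98279, 0] (fun i => sh 13 (C2.L i)) (fun i => sh 13 (C2.R i)) 71 7) c23))) ((m m0 h0).rules_of (base m0 h0 hb hc) (Model.via _ (mR m0 h0) (fun R => rulesB R [276, 27506, 4601, 98279, 0] (fun i => sh 13 (C2.L i)) (fun i => sh 13 (C2.R i)) 78 4) c24))) ((m m0 h0).rules_of (base m0 h0 hb hc) (Model.via _ (mR m0 h0) (fun R => rulesB R [276, 27506, 4601, 98279, 0] (fun i => sh 13 (C2.L i)) (fun i => sh 13 (C2.R i)) 82 5) c25))) ((m m0 h0).rules_of (base m0 h0 hb hc) (Model.via _ (mR m0 h0) (fun R => rulesB R [276, 27506, 4601, 98279, 0] (fun i => sh 13 (C2.L i)) (fun i => sh 13 (C2.R i)) 87 7) c26))) ((m m0 h0).rules_of (base m0 h0 hb hc) (Model.via _ (mR m0 h0) (fun R => rulesB R [276, 27506, 4601, 98279, 0] (fun i => sh 13 (C2.L i)) (fun i => sh 13 (C2.R i)) 94 5) c27)))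 ((m m0 h0).rules_of (base m0 h0 hb hc) (Model.via _ (mR m0 h0) (fun R => rulesB R [276, 27506, 4601, 98279, 0] (fun i => sh 13 (C2.L i)) (fun i => sh 13 (C2.R i)) 99 7) c28))) ((m m0 h0).rules_of (base m0 h0 hb hc) (Model.via _ (mR m0 h0) (fun R => rulesB R [276, 27506, 4601, 98279, 0] (fun i => sh 13 (C2.L i)) (fun i => sh 13 (C2.R i)) 106 5) c29))) ((m m0 h0).rules_of (base m0 h0 hb hc) (Model.via _ (mR m0 h0) (fun R => rulesB R [276, 27506, 4601, 98279, 0] (fun i => sh 13 (C2.L i)) (fun i => sh 13 (C2.R i)) 111 6) c30))) ((m m0 h0).rules_of (base m0 h0 hb hc) (Model.via _ (mR m0 h0) (fun R => rulesB R [276, 27506, 4601, 98279, 0] (fun i => sh 13 (C2.L i)) (fun i => sh 13 (C2.R i)) 117 6) c31))) ((m m0 h0).rules_of (base m0 h0 hb hc) (Model.via _ (mR m0 h0) (fun R => rulesB R [276, 27506, 4601, 98279, 0] (fun i => sh 13 (C2.L i)) (fun i => sh 13 (C2.R i)) 123 6) c32))) ((m m0 h0).rules_of (base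 m0 h0 hb hc) (Model.via _ (mR m0 h0) (fun R => rulesB R [276, 27506, 4601, 98279, 0] (fun i => sh 13 (C2.L i)) (fun i => sh 13 (C2.R i)) 129 7) c33))) ((m m0 h0).rules_of (base m0 h0 hb hc) (Model.via _ (mR m0 h0) (fun R => rulesB R [276, 27506, 4601, 98279, 0] (fun i => sh 13 (C2.L i)) (fun i => sh 13 (C2.R i)) 136 6) c34))) ((m m0 h0).rules_of (base m0 h0 hb hc) (Model.via _ (mR m0 h0) (fun R => rulesB R [276, 27506, 4601, 98279, 0] (fun i => sh 13 (C2.L i)) (fun i => sh 13 (C2.R i)) 142 7) c35))) ((m m0 h0).rules_of (base m0 h0 hb hc) (Model.via _ (mR m0 h0) (fun R => rulesB R [276, 27506, 4601, 98279, 0] (fun i => sh 13 (C2.L i)) (fun i => sh 13 (C2.R i)) 149 8) c36))) ((m m0 h0).rules_of (base m0 h0 hb hc) (Model.via _ (mR m0 h0) (fun R => rulesB R [276, 27506, 4601, 98279, 0] (fun i => sh 13 (C2.L i)) (fun i => sh 13 (C2.R i)) 157 6) c37))) ((m m0 h0).rules_of (base m0 h0 hb hc) (Model.via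 _ (mR m0 h0) (fun R => rulesB R [276, 27506, 4601, 98279, 0] (fun i => sh 13 (C2.L i)) (fun i => sh 13 (C2.R i)) 163 8) c38))) ((m m0 h0).rules_of (base m0 h0 hb hc) (Model.via _ (mR m0 h0) (fun R => rulesB R [276, 27506, 4601, 98279, 0] (fun i => sh 13 (C2.L i)) (fun i => sh 13 (C2.R i)) 171 7) c39))) ((m m0 h0).rules_of (base m0 h0 hb hc) (Model.via _ (mR m0 h0) (fun R => rulesB R [276, 27506, 4601, 98279, 0] (fun i => sh 13 (C2.L i)) (fun i => sh 13 (C2.R i)) 178 8) c40))) ((m m0 h0).rules_of (base m0 h0 hb hc) (Model.via _ (mR m0 h0) (fun R => rulesB R [276, 27506, 4601, 98279, 0] (fun i => sh 13 (C2.L i)) (fun i => sh 13 (C2.R i)) 186 8) c41))) ((m m0 h0).rules_of (base m0 h0 hb hc) (Model.via _ (mR m0 h0) (fun R => rulesB R [276, 27506, 4601, 98279, 0] (fun i => sh 13 (C2.L i)) (fun i => sh 13 (C2.R i)) 194 8) c42))) ((m m0 h0).rules_of (base m0 h0 hb hc) (Model.via _ (mR m0 h0) (fun R =>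 rulesB R [276, 27506, 4601, 98279, 0] (fun i => sh 13 (C2.L i)) (fun i => sh 13 (C2.R i)) 202 8) c43))) ((m m0 h0).rules_of (base m0 h0 hb hc) (Model.via _ (mR m0 h0) (fun R => rulesB R [276, 27506, 4601, 98279, 0] (fun i => sh 13 (C2.L i)) (fun i => sh 13 (C2.R i)) 210 8) c44))) ((m m0 h0).rules_of (base m0 h0 hb hc) (Model.via _ (mR m0 h0) (fun R => rulesB R [276, 27506, 4601, 98279, 0] (fun i => sh 13 (C2.L i)) (fun i => sh 13 (C2.R i)) 218 8) c45))) ((m m0 h0).rules_of (base m0 h0 hb hc) (Model.via _ (mR m0 h0) (fun R => rulesB R [276, 27506, 4601, 98279, 0] (fun i => sh 13 (C2.L i)) (fun i => sh 13 (C2.R i)) 226 6) c46))) ((m m0 h0).rules_of (base m0 h0 hb hc) (Model.via _ (mR m0 h0) (fun R => rulesB R [276, 27506, 4601, 98279, 0] (fun i => sh 13 (C2.L i)) (fun i => sh 13 (C2.R i)) 232 2) c47))) ((m m0 h0).rules_of (base m0 h0 hb hc) (Model.via _ (mR m0 h0) (fun R => rulesB R [276, 27506, 4601,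 98279, 0] (fun i => sh 13 (C2.L i)) (fun i => sh 13 (C2.R i)) 234 2) c48))) ((m m0 h0).rules_of (base m0 h0 hb hc) (Model.via _ (mR m0 h0) (fun R => rulesB R [276, 27506, 4601, 98279, 0] (fun i => sh 13 (C2.L i)) (fun i => sh 13 (C2.R i)) 236 2) c49))) ((m m0 h0).rules_of (base m0 h0 hb hc) (Model.via _ (mR m0 h0) (fun R => rulesB R [276, 27506, 4601, 98279, 0] (fun i => sh 13 (C2.L i)) (fun i => sh 13 (C2.R i)) 238 2) c50))) ((m m0 h0).rules_of (base m0 h0 hb hc) (Model.via _ (mR m0 h0) (fun R => rulesB R [276, 27506, 4601, 98279, 0] (fun i => sh 13 (C2.L i)) (fun i => sh 13 (C2.R i)) 240 3) c51))) ((m m0 h0).rules_of (base m0 h0 hb hc) (Model.via _ (mR m0 h0) (fun R => rulesB R [276, 27506, 4601, 98279, 0] (fun i => sh 13 (C2.L i)) (fun i => sh 13 (C2.R i)) 243 4) c52))) ((m m0 h0).rules_of (base m0 h0 hb hc) (Model.via _ (mR m0 h0) (fun R => rulesB R [276, 27506, 4601, 98279, 0] (fun i => sh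 13 (C2.L i)) (fun i => sh 13 (C2.R i)) 247 4) c53))) ((m m0 h0).rules_of (base m0 h0 hb hc) (Model.via _ (mR m0 h0) (fun R => rulesB R [276, 27506, 4601, 98279, 0] (fun i => sh 13 (C2.L i)) (fun i => sh 13 (C2.R i)) 251 2) c54))) ((m m0 h0).rules_of (base m0 h0 hb hc) (Model.via _ (mR m0 h0) (fun R => rulesB R [276, 27506, 4601, 98279, 0] (fun i => sh 13 (C2.L i)) (fun i => sh 13 (C2.R i)) 253 2) c55))) ((m m0 h0).rules_of (base m0 h0 hb hc) (Model.via _ (mR m0 h0) (fun R => rulesB R [276, 27506, 4601, 98279, 0] (fun i => sh 13 (C2.L i)) (fun i => sh 13 (C2.R i)) 255 3) c56))) ((m m0 h0).rules_of (base m0 h0 hb hc) (Model.via _ (mR m0 h0) (fun R => rulesB R [276, 27506, 4601, 98279, 0] (fun i => sh 13 (C2.L i)) (fun i => sh 13 (C2.R i)) 258 3) c57))) ((m m0 h0).rules_of (base m0 h0 hb hc) (Model.via _ (mR m0 h0) (fun R => rulesB R [276, 27506, 4601, 98279, 0] (fun i => sh 13 (C2.L i)) (fun i =>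 sh 13 (C2.R i)) 261 3) c58))) ((m m0 h0).rules_of (base m0 h0 hb hc) (Model.via _ (mR m0 h0) (fun R => rulesB R [276, 27506, 4601, 98279, 0] (fun i => sh 13 (C2.L i)) (fun i => sh 13 (C2.R i)) 264 7) c59))) ((m m0 h0).rules_of (base m0 h0 hb hc) (Model.via _ (mR m0 h0) (fun R => rulesB R [276, 27506, 4601, 98279, 0] (fun i => sh 13 (C2.L i)) (fun i => sh 13 (C2.R i)) 271 2) c60))) ((m m0 h0).rules_of (base m0 h0 hb hc) (Model.via _ (mR m0 h0) (fun R => rulesB R [276, 27506, 4601, 98279, 0] (fun i => sh 13 (C2.L i)) (fun i => sh 13 (C2.R i)) 273 2) c61))) ((m m0 h0).rules_of (base m0 h0 hb hc) (Model.via _ (mR m0 h0) (fun R => rulesB R [276, 27506, 4601, 98279, 0] (fun i => sh 13 (C2.L i)) (fun i => sh 13 (C2.R i)) 275 3) c62))) ((m m0 h0).rules_of (base m0 h0 hb hc) (Model.via _ (mR m0 h0) (fun R => rulesB R [276, 27506, 4601, 98279, 0] (fun i => sh 13 (C2.L i)) (fun i => sh 13 (C2.R i)) 278 3)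 c63))) ((m m0 h0).rules_of (base m0 h0 hb hc) (Model.via _ (mR m0 h0) (fun R => rulesB R [276, 27506, 4601, 98279, 0] (fun i => sh 13 (C2.L i)) (fun i => sh 13 (C2.R i)) 281 4) c64))) ((m m0 h0).rules_of (base m0 h0 hb hc) (Model.via _ (mR m0 h0) (fun R => rulesB R [276, 27506, 4601, 98279, 0] (fun i => sh 13 (C2.L i)) (fun i => sh 13 (C2.R i)) 285 5) c65))) ((m m0 h0).rules_of (base m0 h0 hb hc) (Model.via _ (mR m0 h0) (fun R => rulesB R [276, 27506, 4601, 98279, 0] (fun i => sh 13 (C2.L i)) (fun i => sh 13 (C2.R i)) 290 3) c66))) ((m m0 h0).rules_of (base m0 h0 hb hc) (Model.via _ (mR m0 h0) (fun R => rulesB R [276, 27506, 4601, 98279, 0] (fun i => sh 13 (C2.L i)) (fun i => sh 13 (C2.R i)) 293 3) c67))) ((m m0 h0).rules_of (base m0 h0 hb hc) (Model.via _ (mR m0 h0) (fun R => rulesB R [276, 27506, 4601, 98279, 0] (fun i => sh 13 (C2.L i)) (fun i => sh 13 (C2.R i)) 296 3) c68))) ((m m0 h0).rules_of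 (base m0 h0 hb hc) (Model.via _ (mR m0 h0) (fun R => rulesB R [276, 27506, 4601, 98279, 0] (fun i => sh 13 (C2.L i)) (fun i => sh 13 (C2.R i)) 299 3) c69))) ((m m0 h0).rules_of (base m0 h0 hb hc) (Model.via _ (mR m0 h0) (fun R => rulesB R [276, 27506, 4601, 98279, 0] (fun i => sh 13 (C2.L i)) (fun i => sh 13 (C2.R i)) 302 4) c70))) ((m m0 h0).rules_of (base m0 h0 hb hc) (Model.via _ (mR m0 h0) (fun R => rulesB R [276, 27506, 4601, 98279, 0] (fun i => sh 13 (C2.L i)) (fun i => sh 13 (C2.R i)) 306 5) c71))) ((m m0 h0).rules_of (base m0 h0 hb hc) (Model.via _ (mR m0 h0) (fun R => rulesB R [276, 27506, 4601, 98279, 0] (fun i => sh 13 (C2.L i)) (fun i => sh 13 (C2.R i)) 311 2) c72))) ((m m0 h0).rules_of (base m0 h0 hb hc) (Model.via _ (mR m0 h0) (fun R => rulesB R [276, 27506, 4601, 98279, 0] (fun i => sh 13 (C2.L i)) (fun i => sh 13 (C2.R i)) 313 2) c73))) ((m m0 h0).rules_of (base m0 h0 hb hc) (Model.via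 _ (mR m0 h0) (fun R => rulesB R [276, 27506, 4601, 98279, 0] (fun i => sh 13 (C2.L i)) (fun i => sh 13 (C2.R i)) 315 3) c74))) ((m m0 h0).rules_of (base m0 h0 hb hc) (Model.via _ (mR m0 h0) (fun R => rulesB R [276, 27506, 4601, 98279, 0] (fun i => sh 13 (C2.L i)) (fun i => sh 13 (C2.R i)) 318 3) c75))) ((m m0 h0).rules_of (base m0 h0 hb hc) (Model.via _ (mR m0 h0) (fun R => rulesB R [276, 27506, 4601, 98279, 0] (fun i => sh 13 (C2.L i)) (fun i => sh 13 (C2.R i)) 321 4) c76))) ((m m0 h0).rules_of (base m0 h0 hb hc) (Model.via _ (mR m0 h0) (fun R => rulesB R [276, 27506, 4601, 98279, 0] (fun i => sh 13 (C2.L i)) (fun i => sh 13 (C2.R i)) 325 5) c77))) ((m m0 h0).rules_of (base m0 h0 hb hc) (Model.via _ (mR m0 h0) (fun R => rulesB R [276, 27506, 4601, 98279, 0] (fun i => sh 13 (C2.L i)) (fun i => sh 13 (C2.R i)) 330 1) c78))) (ch2_ok m0 h0) (by decide +kernel) tests2 (all_take_done (all_take_step (all_take_step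 (all_take_zero _ tests2) (allL_spec c79)) (allL_spec c80)) (by decide +kernel))
    av2 FS2 YS2 rows2 (all_take_done (all_take_step (all_take_step (all_take_step (all_take_step (all_take_step (all_take_step (all_take_zero _ rows2) (allL_spec c81)) (allL_spec c82)) (allL_spec c83)) (allL_spec c84)) (allL_spec c85)) (allL_spec c86)) (by decide +kernel)) c87
omit hb hc in
theorem ch3_ok : (m m0 h0).ChainOK ch3 [] := ((m m0 h0).chain_cons [0, 1, 2, 3, 4, 5, 6, 7, 8, 1, 0, 2, 3, 4, 1, 2, 0, 1, 0] (Model.via _ (mR m0 h0) (fun R => Model.fixP R [] [[39], [40], [41], [42], [43], [44], [45], [46], [47]]) c88) (Model.via _ (mR m0 h0) (fun R => Model.growP R [[39], [40], [41], [42], [43], [44], [45], [46], [47]] [0, 1, 2, 3, 4, 5, 6, 7, 8, 1, 0, 2, 3, 4, 1, 2, 0, 1, 0] 0 19683) c89) ((m m0 h0).chain_nil _))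
theorem pb3 : PBound G (3 ^ (0 + 1)) :=
  (m m0 h0).pbound C3 39 (k := 211236945920000) (K := 2) (e := 1) hc (lt_step_all (a := 59) (k := 4) (lt_step_all (a := 56) (k := 3) (lt_step_all (a := 54) (k := 2) (lt_step_all (a := 50) (k := 4) (lt_step_all (a := 47) (k := 3) (lt_step_all (a := 44) (k := 3) (lt_step_all (a := 36) (k := 8) (lt_step_all (a := 29) (k := 7) (lt_step_all (a := 22) (k := 7) (lt_step_all (a := 16) (k := 6) (lt_step_all (a := 11) (k := 5) (lt_step_all (a := 5) (k := 6) (lt_step_all (a := 0) (k := 5) (lt_zero_all _) ((m m0 h0).rules_of (base m0 h0 hb hc) (Model.via _ (mR m0 h0) (fun R => rulesB R [276, 27506, 4601, 98279, 0] (fun i => sh 39 (C3.L i)) (fun i => sh 39 (C3.R i)) 0 5) c90))) ((m m0 h0).rules_of (base m0 h0 hb hc) (Model.via _ (mR m0 h0) (fun R => rulesB R [276, 27506, 4601, 98279, 0] (fun i => sh 39 (C3.L i)) (fun i => sh 39 (C3.R i)) 5 6) c91))) ((m m0 h0).rules_of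 (base m0 h0 hb hc) (Model.via _ (mR m0 h0) (fun R => rulesB R [276, 27506, 4601, 98279, 0] (fun i => sh 39 (C3.L i)) (fun i => sh 39 (C3.R i)) 11 5) c92))) ((m m0 h0).rules_of (base m0 h0 hb hc) (Model.via _ (mR m0 h0) (fun R => rulesB R [276, 27506, 4601, 98279, 0] (fun i => sh 39 (C3.L i)) (fun i => sh 39 (C3.R i)) 16 6) c93))) ((m m0 h0).rules_of (base m0 h0 hb hc) (Model.via _ (mR m0 h0) (fun R => rulesB R [276, 27506, 4601, 98279, 0] (fun i => sh 39 (C3.L i)) (fun i => sh 39 (C3.R i)) 22 7) c94))) ((m m0 h0).rules_of (base m0 h0 hb hc) (Model.via _ (mR m0 h0) (fun R => rulesB R [276, 27506, 4601, 98279, 0] (fun i => sh 39 (C3.L i)) (fun i => sh 39 (C3.R i)) 29 7) c95))) ((m m0 h0).rules_of (base m0 h0 hb hc) (Model.via _ (mR m0 h0) (fun R => rulesB R [276, 27506, 4601, 98279, 0] (fun i => sh 39 (C3.L i)) (fun i => sh 39 (C3.R i)) 36 8) c96))) ((m m0 h0).rules_of (base m0 h0 hb hc) (Model.via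 _ (mR m0 h0) (fun R => rulesB R [276, 27506, 4601, 98279, 0] (fun i => sh 39 (C3.L i)) (fun i => sh 39 (C3.R i)) 44 3) c97))) ((m m0 h0).rules_of (base m0 h0 hb hc) (Model.via _ (mR m0 h0) (fun R => rulesB R [276, 27506, 4601, 98279, 0] (fun i => sh 39 (C3.L i)) (fun i => sh 39 (C3.R i)) 47 3) c98))) ((m m0 h0).rules_of (base m0 h0 hb hc) (Model.via _ (mR m0 h0) (fun R => rulesB R [276, 27506, 4601, 98279, 0] (fun i => sh 39 (C3.L i)) (fun i => sh 39 (C3.R i)) 50 4) c99))) ((m m0 h0).rules_of (base m0 h0 hb hc) (Model.via _ (mR m0 h0) (fun R => rulesB R [276, 27506, 4601, 98279, 0] (fun i => sh 39 (C3.L i)) (fun i => sh 39 (C3.R i)) 54 2) c100))) ((m m0 h0).rules_of (base m0 h0 hb hc) (Model.via _ (mR m0 h0) (fun R => rulesB R [276, 27506, 4601, 98279, 0] (fun i => sh 39 (C3.L i)) (fun i => sh 39 (C3.R i)) 56 3) c101))) ((m m0 h0).rules_of (base m0 h0 hb hc) (Model.via _ (mR m0 h0) (fun R => rulesB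 R [276, 27506, 4601, 98279, 0] (fun i => sh 39 (C3.L i)) (fun i => sh 39 (C3.R i)) 59 4) c102))) (ch3_ok m0 h0) (by decide +kernel) tests3 (all_take_done (all_take_step (all_take_zero _ tests3) (allL_spec c103)) (by decide +kernel))
    av3 FS3 YS3 rows3 (all_take_done (all_take_step (all_take_zero _ rows3) (allL_spec c104)) (by decide +kernel)) c105
omit hb hc in
theorem ch5_ok : (m m0 h0).ChainOK ch5 [] := ((m m0 h0).chain_cons [0, 1, 2, 3, 1, 0, 2, 1, 0, 1, 0, 1, 0, 1, 0] (Model.via _ (mR m0 h0) (fun R => Model.fixP R [] [[50], [51], [52], [53]]) c106) (Model.via _ (mR m0 h0) (fun R => Model.growP R [[50], [51], [52], [53]] [0, 1, 2, 3, 1, 0, 2, 1, 0, 1, 0, 1, 0, 1, 0] 0 625) c107) ((m m0 h0).chain_nil _))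
theorem pb5 : PBound G (5 ^ (0 + 1)) :=
  (m m0 h0).pbound C5 50 (k := 6652442890469376) (K := 2) (e := 1) hc (lt_step_all (a := 11) (k := 3) (lt_step_all (a := 6) (k := 5) (lt_step_all (a := 0) (k := 6) (lt_zero_all _) ((m m0 h0).rules_of (base m0 h0 hb hc) (Model.via _ (mR m0 h0) (fun R => rulesB R [276, 27506, 4601, 98279, 0] (fun i => sh 50 (C5.L i)) (fun i => sh 50 (C5.R i)) 0 6) c108))) ((m m0 h0).rules_of (base m0 h0 hb hc) (Model.via _ (mR m0 h0) (fun R => rulesB R [276, 27506, 4601, 98279, 0] (fun i => sh 50 (C5.L i)) (fun i => sh 50 (C5.R i)) 6 5) c109))) ((m m0 h0).rules_of (base m0 h0 hb hc) (Model.via _ (mR m0 h0) (fun R => rulesB R [276, 27506, 4601, 98279, 0] (fun i => sh 50 (C5.L i)) (fun i => sh 50 (C5.R i)) 11 3) c110))) (ch5_ok m0 h0) (by decide +kernel) tests5 (all_take_done (all_take_step (all_take_zero _ tests5) (allL_spec c111)) (by decide +kernel))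
    av5 FS5 YS5 rows5 (all_take_done (all_take_step (all_take_zero _ rows5) (allL_spec c112)) (by decide +kernel)) c113
omit hb hc in
theorem ch7_ok : (m m0 h0).ChainOK ch7 [] := ((m m0 h0).chain_cons [0, 1, 0, 1, 0, 1, 0, 1, 0, 1, 0, 1] (Model.via _ (mR m0 h0) (fun R => Model.fixP R [] [[55], [56]]) c114) (Model.via _ (mR m0 h0) (fun R => Model.growP R [[55], [56]] [0, 1, 0, 1, 0, 1, 0, 1, 0, 1, 0, 1] 0 49) c115) ((m m0 h0).chain_nil _))
theorem pb7 : PBound G (7 ^ (0 + 1)) :=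
  (m m0 h0).pbound C7 55 (k := 84852587888640000) (K := 2) (e := 1) hc (lt_step_all (a := 4) (k := 1) (lt_step_all (a := 0) (k := 4) (lt_zero_all _) ((m m0 h0).rules_of (base m0 h0 hb hc) (Model.via _ (mR m0 h0) (fun R => rulesB R [276, 27506, 4601, 98279, 0] (fun i => sh 55 (C7.L i)) (fun i => sh 55 (C7.R i)) 0 4) c116))) ((m m0 h0).rules_of (base m0 h0 hb hc) (Model.via _ (mR m0 h0) (fun R => rulesB R [276, 27506, 4601, 98279, 0] (fun i => sh 55 (C7.L i)) (fun i => sh 55 (C7.R i)) 4 1) c117))) (ch7_ok m0 h0) (by decide +kernel) tests7 (all_take_done (all_take_step (all_take_zero _ tests7) (allL_spec c118)) (by decide +kernel))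
    av7 FS7 YS7 rows7 (all_take_done (all_take_step (all_take_zero _ rows7) (allL_spec c119)) (by decide +kernel)) c120
theorem bound (Γ : Type u) [Group Γ] [Finite Γ] (σ : Γ →* G) (hσ : Cfsg.IsStemExtension σ) : Nat.card σ.ker ∣ 2 :=
  card_ker_dvd (M := 23) (k := 21) (L := [2, 3, 5, 7]) hc (by decide +kernel) (ex_bound (pb2 m0 h0 hb hc) (by decide) (ex_bound (pb3 m0 h0 hb hc) (by decide) (ex_bound (pb5 m0 h0 hb hc) (by decide) (ex_bound (pb7 m0 h0 hb hc) (by decide) ex_bound_nil)))) Γ σ hσ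
end H0.QCo1
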